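import Cfsg.Agent.Mrg.Omega.NO3S.TwoMid.CubU
import Cfsg.Agent.Mrg.Omega.NOThree.TF.Blk
import Cfsg.Agent.Mrg.Omega.NOThree.TF.ULam


/-!
# NO-3S, `|V| = 4`, critical distance 2 (TwoMid): the end for `N_b = ⟨b⟩` (bb #18799 (6)-(8), #18802)

* `xx V b r` : the preimage in `W_b` of `[M_b, B_λ] + ⟨λ⟩`, `λ = rbar`, `B_λ` the group of the elements of `C(b)` which
  are trivial on `E_λ = (W_b ∩ W_r)/b` and on `M_b/E_λ`; `xx_symm` : `xx V b r = xx V r b`;
* `TrW V a b c u` : `u ∈ W_a` acts on `W_b` as a transvection with the centre `c`; `TrW.np` : the centres `≠ r` are not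
  points; `TrW.opp` : the opposite point;
* `DT T V z a r b x f` : the (D)-triples of LEMMA D; `Mid.false_of_inner` : **the end**.
-/

set_option autoImplicit false
set_option linter.unusedSectionVars false

namespace Cfsg.Agent.Omega.NO3S.TwoMid

open Subgroup Cfsg Cfsg.Agent.ZN Cfsg.Agent.MinSimple.Geo Cfsg.Agent.Omega.CaseL Cfsg.Agent.Omega.NO3S.TwoOne
  Cfsg.Agent.Omega.NO3S.Pt
open Cfsg.Agent.Omega.NO3S.TypeN (exists_conj_flag)
open Cfsg.Agent.Omega.NO3S.Dual (nn mem_nn DW mem_sup_of_comm)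
open Cfsg.Agent.ZN.Block (conj_mem_of_normalizer conj_mem_of_normalizer' le_normalizer_of_forall
  mem_normalizer_of)
open Cfsg.Agent.Omega.NOThree
open Cfsg.Agent.Omega.NOThree.TF (Md MM pim md_MM)
open Cfsg.Agent.Omega.NOThree.LL (BD Tr bd_of_tr finite_Md exists_nb span_pt pt_conj)

universe u

variable {G : Type u} [Group G] {T V : Subgroup G} {z : G} {a b c r x : G}

/-! ### the subgroup `xx V b r` -/

/-- `g` is trivial on `E_λ` and on `M_b / E_λ` -/
structure BL (V : Subgroup G) (b r g : G) : Prop where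
  comm : g * b = b * g
  fix : ∀ u ∈ ws V b ⊓ ws V r, g * u * g⁻¹ * u⁻¹ ∈ zpowers b
  mod : ∀ w ∈ ws V b, g * w * g⁻¹ * w⁻¹ ∈ ws V r

/-- the preimage of `[M_b, B_λ] + ⟨λ⟩` -/
def xx (V : Subgroup G) (b r : G) : Subgroup G :=
  closure ({b, r} ∪ {v | ∃ w ∈ ws V b, ∃ g, BL V b r g ∧ v = g * w * g⁻¹ * w⁻¹})

theorem BL.conj {g : G} (h : BL V b r g) (k : G) : BL V (k * b * k⁻¹) (k * r * k⁻¹) (k * g * k⁻¹) where
  comm := by
    have := h.comm
    calc k * g * k⁻¹ * (k * b * k⁻¹) = k * (g * b) * k⁻¹ := by group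
      _ = k * (b * g) * k⁻¹ := by rw [this]
      _ = k * b * k⁻¹ * (k * g * k⁻¹) := by group
  fix := by
    intro u hu
    rw [← cj_ws, ← cj_ws] at hu
    have h1 := h.fix (k⁻¹ * u * k) ⟨mem_cj.mp hu.1, mem_cj.mp hu.2⟩
    have h2 := conj_mem_cj (g := k) h1
    have e1 : cj k (zpowers b) = zpowers (k * b * k⁻¹) := MonoidHom.map_zpowers _ _
    rw [e1] at h2
    convert h2 using 1
    group
  mod := by
    intro w hw
    rw [← cj_ws] at hw ⊢
    have h1 := h.mod (k⁻¹ * w * k) (mem_cj.mp hw)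
    have h2 := conj_mem_cj (g := k) h1
    convert h2 using 1
    group

theorem conj_mem_xx {v : G} (k : G) (h : v ∈ xx V b r) : k * v * k⁻¹ ∈ xx V (k * b * k⁻¹) (k * r * k⁻¹) := by
  unfold xx at h
  induction h using closure_induction with
  | mem v hv =>
    rcases hv with (rfl | rfl) | ⟨w, hw, g, hg, rfl⟩
    · exact subset_closure (Or.inl (Or.inl rfl))
    · exact subset_closure (Or.inl (Or.inr rfl))
    · refine subset_closure (Or.inr ⟨k * w * k⁻¹, conj_mem_ws k hw, k * g * k⁻¹, hg.conj k, ?_⟩)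
      group
  | one => simp
  | mul v w _ _ h1 h2 =>
    have e : k * (v * w) * k⁻¹ = (k * v * k⁻¹) * (k * w * k⁻¹) := by group
    rw [e]
    exact mul_mem h1 h2
  | inv v _ h1 =>
    have e : k * v⁻¹ * k⁻¹ = (k * v * k⁻¹)⁻¹ := by group
    rw [e]
    exact inv_mem h1

theorem b_mem_xx (V : Subgroup G) (b r : G) : b ∈ xx V b r := subset_closure (Or.inl (Or.inl rfl))

theorem r_mem_xx (V : Subgroup G) (b r : G) : r ∈ xx V b r := subset_closure (Or.inl (Or.inr rfl))

section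

variable [Finite G]

theorem xx_le (h : Two T V z) (hbr : Col V b r) : xx V b r ≤ ws V b ⊓ ws V r := by
  refine (closure_le _).mpr ?_
  rintro v ((rfl | rfl) | ⟨w, hw, g, hg, rfl⟩)
  · exact ⟨h.fr.mem_ws_self hbr.left, h.fr.mem_ws_of_col hbr.symm⟩
  · exact ⟨h.fr.mem_ws_of_col hbr, h.fr.mem_ws_self hbr.right⟩
  · exact ⟨(ws V b).mul_mem (conj_mem_of_normalizer (centralizer_le_normalizer_ws V b)
      (mem_centralizer_singleton_iff.mpr hg.comm) hw) (inv_mem hw), hg.mod w hw⟩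

/-- `K_b` and `K_r` normalise `xx V b r` -/
theorem xx_kq (h : Two T V z) (hbr : Col V b r) {p k v : G} (hp : p = b ∨ p = r) (hk : k ∈ kq V p)
    (hv : v ∈ xx V b r) : k * v * k⁻¹ ∈ xx V b r := by
  have hpx : p ∈ xx V b r := by
    rcases hp with rfl | rfl
    · exact b_mem_xx V _ _
    · exact r_mem_xx V _ _
  have hvp : v ∈ ws V p := by
    rcases hp with rfl | rfl
    · exact (xx_le h hbr hv).1
    · exact (xx_le h hbr hv).2
  have hpp : Col V p p := by
    rcases hp with rfl | rfl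
    · exact hbr.left
    · exact hbr.right
  rcases h.fr.kq_cases' hpp hk hvp with e | e
  · rw [e]; exact hv
  · rw [e]; exact mul_mem hpx hv

/-- one inclusion of the exchange of `b` and `r` -/
theorem xx_le_swap (h : Two T V z) (hbr : Col V b r) (hne : b ≠ r) : xx V b r ≤ xx V r b := by
  obtain ⟨g, hb, hr, hb1, hr1⟩ := id hbr
  obtain ⟨_, -, -, hf⟩ := h.fr.flag hb hb1
  have hw : b * r ∈ cj g V := mul_mem hb hr
  have hw1 : b * r ≠ 1 := hf.mul_ne_one hr hne
  have hbb : b * b = 1 := hf.ln.sq b hb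
  have hrr : r * r = 1 := hf.ln.sq r hr
  have hcomm : b * r = r * b := hf.ln.comm hb hr
  have hbw : b ≠ b * r := fun e => hr1 (by simpa using e.symm)
  have hrw : r ≠ b * r := fun e => hb1 (by simpa using e.symm)
  obtain ⟨k₁, hk₁, -, m₁⟩ := h.fr.mover_cj hb hb1
  obtain ⟨k₂, hk₂, -, m₂⟩ := h.fr.mover_cj hw hw1
  obtain ⟨k₃, hk₃, -, m₃⟩ := h.fr.mover_cj hr hr1
  -- `(b, r) → (b, br) → (r, br) → (r, b)`
  have c1 : Col V b (b * r) := ⟨g, hb, hw, hb1, hw1⟩
  have c2 : Col V r (b * r) := ⟨g, hr, hw, hr1, hw1⟩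
  intro v hv
  -- step 1
  have hv1 : v ∈ xx V b (b * r) := by
    have h1 := xx_kq h hbr (Or.inl rfl) (inv_mem hk₁) hv
    have h2 := conj_mem_xx k₁ h1
    have e1 : k₁ * b * k₁⁻¹ = b := conj_eq_of_comm (mem_centralizer_singleton_iff.mp (kq_le_centralizer V b hk₁))
    rw [e1, m₁ r hr hr1 (Ne.symm hne)] at h2
    convert h2 using 1
    group
  -- step 2
  have hv2 : v ∈ xx V r (b * r) := by
    have h1 := xx_kq h c1 (Or.inr rfl) (inv_mem hk₂) hv1
    have h2 := conj_mem_xx k₂ h1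
    have e1 : k₂ * (b * r) * k₂⁻¹ = b * r :=
      conj_eq_of_comm (mem_centralizer_singleton_iff.mp (kq_le_centralizer V (b * r) hk₂))
    have e2 : b * r * b = r := by rw [hcomm, mul_assoc, hbb, mul_one]
    rw [e1, m₂ b hb hb1 hbw, e2] at h2
    convert h2 using 1
    group
  -- step 3
  have h1 := xx_kq h c2 (Or.inl rfl) (inv_mem hk₃) hv2
  have h2 := conj_mem_xx k₃ h1
  have e1 : k₃ * r * k₃⁻¹ = r := conj_eq_of_comm (mem_centralizer_singleton_iff.mp (kq_le_centralizer V r hk₃))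
  have e2 : r * (b * r) = b := by rw [hcomm, ← mul_assoc, hrr, one_mul]
  rw [e1, m₃ (b * r) hw hw1 (Ne.symm hrw), e2] at h2
  convert h2 using 1
  group

theorem xx_symm (h : Two T V z) (hbr : Col V b r) (hne : b ≠ r) : xx V b r = xx V r b :=
  le_antisymm (xx_le_swap h hbr hne) (xx_le_swap h hbr.symm (Ne.symm hne))

/-! ### transvections -/

/-- `u ∈ W_a` acts on `W_b` as a transvection with centre `c` -/
structure TrW (V : Subgroup G) (a b c u : G) : Prop where
  mem : u ∈ ws V a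
  act : ∀ w ∈ ws V b, u * w * u⁻¹ = w ∨ u * w * u⁻¹ = c * w
  ne : ∃ w ∈ ws V b, u * w * u⁻¹ ≠ w

/-- the image of `c` in `M_b` is not conjugate to `rbar` -/
def NP (b r c : G) : Prop := ∀ g : G, g * b = b * g → g * r * g⁻¹ ≠ c ∧ g * r * g⁻¹ ≠ b * c

omit [Finite G] in
theorem TrW.c_mem {u : G} (t : TrW V a b c u) : c ∈ rr V a b := by
  obtain ⟨w, hw, hne⟩ := t.ne
  rcases t.act w hw with e | e
  · exact absurd e hne
  · have : c = u * w * u⁻¹ * w⁻¹ := by rw [e, mul_inv_cancel_right]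
    rw [this]
    exact comm_mem_rr t.mem hw

omit [Finite G] in
theorem TrW.ne_one {u : G} (t : TrW V a b c u) : c ≠ 1 := by
  rintro rfl
  obtain ⟨w, hw, hne⟩ := t.ne
  rcases t.act w hw with e | e
  · exact hne e
  · exact hne (by rw [e, one_mul])

theorem TrW.ne_b {u : G} (hm : Mid T V z a r b) (t : TrW V a b c u) : c ≠ b := by
  rintro rfl
  exact hm.not_mem_rr' t.c_mem

theorem TrW.cent {u : G} (hm : Mid T V z a r b) (t : TrW V a b c u) : u ∈ centralizer ({b} : Set G) :=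
  hm.symm.cent t.mem

section module

variable {M : Type u} [AddCommGroup M] [DistribMulAction (centralizer ({b} : Set G)) M] {π : G → M}
  {U : AddSubgroup M}

theorem π_c_ne {u : G} (hm : Mid T V z a r b) (md : Md V b π) (t : TrW V a b c u) : π c ≠ 0 := by
  intro e
  rcases (md.ker c (hm.rr_le t.c_mem).2).1 e with e | e
  · exact t.ne_one e
  · exact t.ne_b hm e

theorem TrW.tr {u : G} (hm : Mid T V z a r b) (md : Md V b π) (t : TrW V a b c u) :
    Tr (π c) (⟨u, t.cent hm⟩ : centralizer ({b} : Set G)) where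
  tr m := by
    obtain ⟨w, hw, rfl⟩ := md.surj m
    have h1 := md.smul ⟨u, t.cent hm⟩ w hw
    rw [← h1]
    rcases t.act w hw with e | e
    · left
      change π (u * w * u⁻¹) = π w
      rw [e]
    · right
      change π (u * w * u⁻¹) = π w + π c
      rw [e, md.map_mul c (hm.rr_le t.c_mem).2 w hw, add_comm]
  ne := by
    obtain ⟨w, hw, hne⟩ := t.ne
    refine ⟨π w, ?_⟩
    rw [← md.smul ⟨u, t.cent hm⟩ w hw]
    change π (u * w * u⁻¹) ≠ π w
    rcases t.act w hw with e | e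
    · exact absurd e hne
    · rw [e, md.map_mul c (hm.rr_le t.c_mem).2 w hw]
      intro e'
      exact π_c_ne hm md t (add_eq_right.1 e')

/-- the data `BD` -/
theorem TrW.bd {u : G} (hm : Mid T V z a r b) (hin : rr V a b ≤ ws V r) (md : Md V b π) (t : TrW V a b c u)
    (hc : NP b r c) {g : G} (hb : b ∈ cj g V) (hr : r ∈ cj g V) (hU : ∀ m, m ∈ U ↔ ∃ a ∈ ii (cj g V), π a = m) :
    BD (centralizer ({b} : Set G)) (π r) U (π c) := by
  have hb1 := hm.rq.right.ne_one
  have hr1 := hm.rq.ne_one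
  have hcW : c ∈ ws V b := (hm.rr_le t.c_mem).2
  have hcI : c ∈ ii (cj g V) := (mem_ii_iff hm.fr hb hr hb1 hr1 hm.ne_rq.symm).mp ⟨hcW, hin t.c_mem⟩
  refine bd_of_tr hm.fr md hb hb1 hr hr1 hm.ne_rq hU ((hU _).2 ⟨c, hcI, rfl⟩) ?_ ⟨_, t.tr hm md, ?_⟩
  · intro k e
    rw [← md.smul k r (hm.fr.mem_ws_of_col hm.rq.symm),
      md.eq_iff hm.fr hm.rq.right (TF.conj_mem_ws_of_mem k.2 (hm.fr.mem_ws_of_col hm.rq.symm)) hcW] at e
    have h1 := hc k (mem_centralizer_singleton_iff.mp k.2)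
    rcases e with e | e
    · exact h1.1 e
    · exact h1.2 e
  · intro v hv
    obtain ⟨w, hw, rfl⟩ := (hU v).1 hv
    have h2 := (mem_ii_iff hm.fr hb hr hb1 hr1 hm.ne_rq.symm).mpr hw
    rw [← md.smul ⟨u, t.cent hm⟩ w h2.1]
    change π (u * w * u⁻¹) = π w
    have h3 := mem_centralizer_iff.mp (hm.toTwo.ws_le_cent hm.pr t.mem) w h2.2
    rw [← h3, mul_inv_cancel_right]

/-- the commutators of a `BL`-element -/
theorem TrW.comm_cases {u : G} (hm : Mid T V z a r b) (hin : rr V a b ≤ ws V r) (md : Md V b π)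
    (t : TrW V a b c u) (hc : NP b r c) {k : G} (hk : BL V b r k) {w : G} (hw : w ∈ ws V b) :
    π (k * w * k⁻¹ * w⁻¹) = 0 ∨ π (k * w * k⁻¹ * w⁻¹) = π c ∨ π (k * w * k⁻¹ * w⁻¹) = π c + π r ∨
      π (k * w * k⁻¹ * w⁻¹) = π r := by
  have hmd := finite_Md md
  obtain ⟨g, hr, hb, hr1, hb1⟩ := hm.rq
  obtain ⟨U, hU⟩ := md.exists_U hm.fr hb hb1
  have bd := t.bd hm hin md hc hb hr hU
  have hsq := hm.fr.ws_sq hm.rq.right
  have hkc : k ∈ centralizer ({b} : Set G) := mem_centralizer_singleton_iff.mpr hk.comm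
  have hkw : k * w * k⁻¹ ∈ ws V b := TF.conj_mem_ws_of_mem hkc hw
  rw [inv_eq_of_mul_eq_one_left (hsq w hw), md.map_mul _ hkw _ hw]
  have h1 := bd.comm_mem (g := ⟨k, hkc⟩) (fun v hv => by
    obtain ⟨e, he, rfl⟩ := (hU v).1 hv
    have h2 := (mem_ii_iff hm.fr hb hr hb1 hr1 hm.ne_rq.symm).mpr he
    rw [← md.smul ⟨k, hkc⟩ e h2.1]
    change π (k * e * k⁻¹) = π e
    rw [md.eq_iff hm.fr hm.rq.right (TF.conj_mem_ws_of_mem hkc h2.1) h2.1]
    rcases (mem_zpowers_iff_of_mul_self (hm.fr.pt_sq hm.rq.right)).mp (hk.fix e h2) with e' | e'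
    · left; exact mul_inv_eq_one.mp e'
    · right; exact mul_inv_eq_iff_eq_mul.mp e') (fun m => by
    obtain ⟨e, he, rfl⟩ := md.surj m
    have h2 : k * e * k⁻¹ ∈ ws V b := TF.conj_mem_ws_of_mem hkc he
    rw [← md.smul ⟨k, hkc⟩ e he]
    change π (k * e * k⁻¹) + π e ∈ U
    rw [← md.map_mul _ h2 _ he]
    refine (hU _).2 ⟨k * e * k⁻¹ * e, ?_, rfl⟩
    refine (mem_ii_iff hm.fr hb hr hb1 hr1 hm.ne_rq.symm).mp ⟨mul_mem h2 he, ?_⟩
    have h3 := hk.mod e he
    rwa [inv_eq_of_mul_eq_one_left (hsq e he)] at h3) (π w)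
  rw [← md.smul ⟨k, hkc⟩ w hw] at h1
  exact h1

/-- `xx V b r ⊆ {0, c, c + λ, λ}` -/
theorem TrW.xx_cases {u : G} (hm : Mid T V z a r b) (hin : rr V a b ≤ ws V r) (md : Md V b π) (t : TrW V a b c u)
    (hc : NP b r c) {v : G} (hv : v ∈ xx V b r) : π v = 0 ∨ π v = π c ∨ π v = π c + π r ∨ π v = π r := by
  have hrW := hm.fr.mem_ws_of_col hm.rq.symm
  have hbb := hm.fr.mem_ws_self hm.rq.right
  have hsq := hm.fr.ws_sq hm.rq.right
  have hs : ∀ m : M, m + m = 0 := md.two hm.fr hm.rq.right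
  let D : AddSubgroup M :=
    { carrier := {m | m = 0 ∨ m = π c ∨ m = π c + π r ∨ m = π r}
      zero_mem' := Or.inl rfl
      add_mem' := by
        have e1 : π c + (π c + π r) = π r := by rw [← add_assoc, hs, zero_add]
        have e2 : π c + π r + π c = π r := by rw [add_comm, e1]
        have e3 : π c + π r + π r = π c := by rw [add_assoc, hs, add_zero]
        have e4 : π r + (π c + π r) = π c := by rw [add_comm, e3]
        rintro x y (rfl | rfl | rfl | rfl) (rfl | rfl | rfl | rfl)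
        all_goals simp only [Set.mem_ofPred_eq, zero_add, add_zero, hs, e1, e2, e3, e4, true_or, or_true]
        rw [add_comm]
        exact Or.inr (Or.inr (Or.inl rfl))
      neg_mem' := by
        intro x hx
        have e : -x = x := neg_eq_of_add_eq_zero_left (hs x)
        change -x ∈ {m | m = 0 ∨ m = π c ∨ m = π c + π r ∨ m = π r}
        rw [e]
        exact hx }
  have key : xx V b r ≤
      { carrier := {v | v ∈ ws V b ∧ π v ∈ D}
        one_mem' := ⟨one_mem _, by rw [md.map_one]; exact zero_mem _⟩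
        mul_mem' := fun {a b} ha hb => ⟨mul_mem ha.1 hb.1, by
          rw [md.map_mul a ha.1 b hb.1]; exact add_mem ha.2 hb.2⟩
        inv_mem' := fun {a} ha => ⟨inv_mem ha.1, by
          rw [inv_eq_of_mul_eq_one_left (hsq a ha.1)]; exact ha.2⟩ } := by
    refine (closure_le _).mpr ?_
    rintro v ((rfl | rfl) | ⟨w, hw, k, hk, rfl⟩)
    · refine ⟨hbb, ?_⟩
      rw [md.map_p hm.fr hm.rq.right]
      exact zero_mem _
    · exact ⟨hrW, Or.inr (Or.inr (Or.inr rfl))⟩
    · have hkc : k ∈ centralizer ({b} : Set G) := mem_centralizer_singleton_iff.mpr hk.comm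
      exact ⟨mul_mem (TF.conj_mem_ws_of_mem hkc hw) (inv_mem hw), t.comm_cases hm hin md hc hk hw⟩
  exact (key hv).2

end module

/-! ### the centres are not points -/

/-- `p ~ c`, `p ~ r`, `c ~ r`, `r ∉ V_pc` : `p ~ c r` -/
theorem col_mul_of (h : Fr T V z) {p : G} (hpc : Col V p c) (hpr : Col V p r) (hcr : Col V c r) (hne : p ≠ c)
    (hr : r ∉ vl p c) : Col V p (c * r) := by
  obtain ⟨g, hp, hc, hp1, hc1⟩ := id hpc
  rw [vl_eq h hp hc hp1 hc1 hne] at hr
  have h1 : r ∈ ii (cj g V) :=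
    (mem_ii_iff h hp hc hp1 hc1 hne).mp ⟨h.mem_ws_of_col hpr, h.mem_ws_of_col hcr⟩
  obtain ⟨k, -, hkV, hk⟩ := h.fu_cj h1 hr hc hc1
  have hkp : k * p * k⁻¹ = p := by
    rw [← mem_centralizer_iff.mp hkV p hp, mul_inv_cancel_right]
  have := hpr.conj k
  rwa [hkp, hk] at this

theorem not_mem_vl (h : Fr T V z) {p : G} (hpr : Col V p r) (hne : p ≠ r) (h1 : c ≠ 1) (h2 : c ≠ p) (h3 : c ≠ r)
    (h4 : c ≠ p * r) : c ∉ vl p r := by
  intro hv
  obtain ⟨g, hp, hr, hp1, hr1⟩ := id hpr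
  rw [vl_eq h hp hr hp1 hr1 hne] at hv
  obtain ⟨k, -, -, hf⟩ := h.flag hp hp1
  rcases hf.ln.four hp hr hp1 hr1 hne hv with e | e | e | e
  · exact h1 e
  · exact h2 e
  · exact h3 e
  · exact h4 e

theorem TrW.not_col {u : G} (hm : Mid T V z a r b) (hin : rr V a b ≤ ws V r) (t : TrW V a b c u) (hcr1 : c ≠ r) :
    ¬ Col V b c := by
  intro h1
  have h := hm.fr
  have hca : c ∈ ws V a := (hm.rr_le t.c_mem).1
  have hcb : c ∈ ws V b := (hm.rr_le t.c_mem).2
  have hcr : c ∈ ws V r := hin t.c_mem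
  have hc1 := t.ne_one
  have hcb1 : c ≠ b := t.ne_b hm
  have hca1 : c ≠ a := by
    rintro rfl
    exact hm.not_mem hcb
  have hmul : ∀ {p q : G}, Mid T V z p r q → c ∈ ws V p → c ≠ q * r := by
    intro p q hpq hcp e
    apply hpq.not_mem'
    have h2 : q = c * r⁻¹ := by rw [e, mul_inv_cancel_right]
    rw [h2]
    exact mul_mem hcp (inv_mem (mem_inf.mp hpq.r_mem).1)
  have hmb := hmul hm hca
  have hma := hmul hm.symm hcb
  obtain ⟨g, -, g1, g2, -⟩ := fstar h hm.rq.symm hm.ne_rq.symm ⟨hcb, hcr⟩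
    (not_mem_vl h hm.rq.symm hm.ne_rq.symm hc1 hcb1 hcr1 hmb)
  have h4 : Col V r c := by
    have := h1.conj g
    rwa [g2, conj_eq_of_comm g1] at this
  obtain ⟨g', -, g1', -, g3'⟩ := fstar h hm.pr hm.ne_pr ⟨hca, hcr⟩
    (not_mem_vl h hm.pr hm.ne_pr hc1 hca1 hcr1 hma)
  have h5 : Col V a c := by
    have := h4.conj g'
    rwa [g3', conj_eq_of_comm g1'] at this
  -- `c r` is a point collinear with `b` and `a`
  have key : ∀ {p : G}, Col V p c → Col V p r → p ≠ r → c ≠ p → c ≠ p * r → Col V p (c * r) := by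
    intro p hpc hpr hne h2 h3
    refine col_mul_of h hpc hpr h4.symm (Ne.symm h2) (not_mem_vl h hpc (Ne.symm h2) ?_ (Ne.symm hne)
      (Ne.symm hcr1) ?_)
    · exact hpr.right.ne_one
    · intro e
      apply h3
      rw [e, ← mul_assoc, h.pt_sq hpc.left, one_mul]
  have hdb : Col V b (c * r) := key h1 hm.rq.symm hm.ne_rq.symm hcb1 hmb
  have hda : Col V a (c * r) := key h5 hm.pr hm.ne_pr hca1 hma
  have hrW : r ∈ ws V b := h.mem_ws_of_col hm.rq.symm
  -- the module
  have md := md_MM h hm.rq.right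
  have hfin := finite_Md md
  obtain ⟨g₀, hr, hb, hr1, hb1⟩ := id hm.rq
  obtain ⟨U, hU⟩ := md.exists_U h hb hb1
  set π := pim V b with hπ
  have hs : ∀ m : MM V b, m + m = 0 := md.two h hm.rq.right
  have hc0 : π c ≠ 0 := π_c_ne hm md t
  have e0 : π (c * r) = π c + π r := md.map_mul c hcb r hrW
  obtain ⟨e, t', n1, n2, n3⟩ := exists_nb hs (span_pt h md hm.rq.symm hm.ne_rq) hc0
    (pt_conj h md hm.rq.symm hm.ne_rq h1 hcb1) (t.tr hm md)
  have hfU : ∀ v ∈ U, (⟨u, t.cent hm⟩ : centralizer ({b} : Set G)) • v = v := by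
    intro v hv
    obtain ⟨w, hw, rfl⟩ := (hU v).1 hv
    have h2 := (mem_ii_iff h hb hr hb1 hr1 hm.ne_rq.symm).mpr hw
    rw [← md.smul ⟨u, t.cent hm⟩ w h2.1]
    change π (u * w * u⁻¹) = π w
    have h3 := mem_centralizer_iff.mp (hm.toTwo.ws_le_cent hm.pr t.mem) w h2.2
    rw [← h3, mul_inv_cancel_right]
  have hcU : π c ∈ U := (hU _).2 ⟨c, (mem_ii_iff h hb hr hb1 hr1 hm.ne_rq.symm).mp ⟨hcb, hcr⟩, rfl⟩
  have n4 : t' • π r = π r + e := by
    rcases n1 (π r) with e' | e'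
    · exfalso
      have h6 := md.stab_U h hb hb1 hr hr1 hm.ne_rq hU e' hcU
      rw [n3] at h6
      have h7 : e ∈ U := by
        have := add_mem hcU h6
        rwa [← add_assoc, hs, zero_add] at this
      have h8 := hfU e h7
      rw [n2, add_eq_left] at h8
      exact hc0 h8
    · exact e'
  -- the point `x`
  obtain ⟨x, hxdef⟩ : ∃ x : G, x = (t' : G) * r * (t' : G)⁻¹ := ⟨_, rfl⟩
  have hxW : x ∈ ws V b := by rw [hxdef]; exact TF.conj_mem_ws_of_mem t'.2 hrW
  have hπx : π x = π r + e := by rw [hxdef, ← n4]; exact md.smul t' r hrW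
  have hbx : Col V b x := by
    have := hm.rq.symm.conj (t' : G)
    rwa [conj_eq_of_comm (mem_centralizer_singleton_iff.mp t'.2), ← hxdef] at this
  have hbW : b ∈ ws V x := h.mem_ws_of_col hbx.symm
  have hxb : b ≠ x := by
    intro e'
    have h6 : π r + e = 0 := by
      rw [← hπx, ← e']
      exact md.map_p h hm.rq.right
    rw [← n4, smul_eq_zero_iff_eq, md.ker r hrW] at h6
    rcases h6 with e | e
    · exact hr1 e
    · exact hm.ne_rq e
  have hdW : c * r ∈ ws V b := mul_mem hcb hrW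
  have hdx : c * r ∈ ws V x := by
    have h6 : (t' : G) * (c * r) * (t' : G)⁻¹ ∈ ws V x := by
      have := conj_mem_ws (t' : G) (mul_mem hcr (h.mem_ws_self hm.pr.right) : c * r ∈ ws V r)
      rwa [← hxdef] at this
    have h7 : π ((t' : G) * (c * r) * (t' : G)⁻¹) = π (c * r) := by
      rw [md.smul t' (c * r) hdW, e0, smul_add, n3, n4]
      calc π c + e + (π r + e) = π c + π r + (e + e) := by abel
        _ = π c + π r := by rw [hs, add_zero]
    rw [md.eq_iff h hm.rq.right (TF.conj_mem_ws_of_mem t'.2 hdW) hdW] at h7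
    rcases h7 with e' | e'
    · rwa [e'] at h6
    · rw [e'] at h6
      have := mul_mem (inv_mem hbW) h6
      rwa [inv_mul_cancel_left] at this
  have hd0 : π (c * r) ≠ 0 := by
    rw [Ne, md.ker _ hdW]
    rintro (e' | e')
    · exact hcr1 (by rw [eq_inv_of_mul_eq_one_left e', inv_eq_of_mul_eq_one_left (h.pt_sq hm.pr.right)])
    · apply hmb
      rw [← e', mul_assoc, h.pt_sq hm.pr.right, mul_one]
  have hdx' : π (c * r) ≠ π x := by
    rw [e0, hπx, add_comm]
    intro e'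
    have h6 : π c = e := add_left_cancel e'
    rw [← h6, hs, smul_eq_zero_iff_eq] at n2
    exact hc0 n2
  obtain ⟨g₁, -, k1, k2, -⟩ := fstar h hbx hxb ⟨hdW, hdx⟩ (by
    refine not_mem_vl h hbx hxb ?_ ?_ ?_ ?_
    · intro e'
      rw [e', md.map_one] at hd0
      exact hd0 rfl
    · intro e'
      rw [e', md.map_p h hm.rq.right] at hd0
      exact hd0 rfl
    · intro e'
      rw [e'] at hdx'
      exact hdx' rfl
    · intro e'
      rw [e', md.map_mul b (h.mem_ws_self hm.rq.right) x hxW, md.map_p h hm.rq.right, zero_add] at hdx'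
      exact hdx' rfl)
  have hxd : Col V x (c * r) := by
    have := hdb.conj g₁
    rwa [k2, conj_eq_of_comm k1] at this
  -- `u` commutes with `x`
  have h6 : u ∈ uu V (c * r) := ws_le_uu hda.symm t.mem
  have h7 := mem_centralizer_iff.mp (hm.toTwo.uu_le_cent (c * r) h6) x (h.mem_ws_of_col hxd.symm)
  have h8 := md.smul ⟨u, t.cent hm⟩ x hxW
  change π (u * x * u⁻¹) = _ at h8
  rw [← h7, mul_inv_cancel_right, hπx, smul_add, hfU _ ((hU _).2 ⟨r, (mem_ii_iff h hb hr hb1 hr1
    hm.ne_rq.symm).mp ⟨hrW, h.mem_ws_self hm.pr.right⟩, rfl⟩), n2, ← add_assoc, eq_comm, add_eq_left] at h8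
  exact hc0 h8

/-- the centres `≠ r` are not conjugate to `rbar` -/
theorem TrW.np {u : G} (hm : Mid T V z a r b) (hin : rr V a b ≤ ws V r) (t : TrW V a b c u) (hcr : c ≠ r) :
    NP b r c := by
  have h := hm.fr
  have key2 := t.not_col hm hin hcr
  intro g hg
  have hgc : Col V b (g * r * g⁻¹) := by
    have := hm.rq.symm.conj g
    rwa [conj_eq_of_comm hg] at this
  have hgb : g * r * g⁻¹ ≠ b := by
    intro e
    apply hm.ne_rq
    have : g * b * g⁻¹ = g * r * g⁻¹ := by rw [conj_eq_of_comm hg, e]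
    have h1 : b = r := by
      calc b = g⁻¹ * (g * b * g⁻¹) * g := by group
        _ = g⁻¹ * (g * r * g⁻¹) * g := by rw [this]
        _ = r := by group
    exact h1.symm
  constructor
  · intro e
    rw [e] at hgc
    exact key2 hgc
  · intro e
    have h1 := col_mul h hgc (Ne.symm hgb)
    rw [e, ← mul_assoc, h.pt_sq hm.rq.right, one_mul] at h1
    exact key2 h1

/-! ### the end -/

/-- **LEMMA D-triple**: `(a, b)` critical with middle `r`, `x ~ b`, `f ∈ W_a`, `x^f ≠ x`, `W_x ∩ W_{x^f} ≤ W_b` -/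
structure DT (T V : Subgroup G) (z a r b x f : G) : Prop where
  mid : Mid T V z a r b
  col : Col V b x
  mem : f ∈ ws V a
  ne : f * x * f⁻¹ ≠ x
  le : ws V x ⊓ ws V (f * x * f⁻¹) ≤ ws V b

/-- `W_x ⊆ BL V r b` if `(x, r)` is critical with middle `b`, inner -/
theorem Mid.bl (hx : Mid T V z x b r) (hin : rr V x r ≤ ws V b) {w : G} (hw : w ∈ ws V x) : BL V r b w where
  comm := mem_centralizer_singleton_iff.mp (hx.symm.cent hw)
  fix := by
    intro u hu
    rw [hx.toTwo.com hx.pr w hw u hu.2, mul_inv_cancel_right, mul_inv_cancel]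
    exact one_mem _
  mod := fun w' hw' => hin (comm_mem_rr hw hw')

/-- (TL2) : there is no transvection of `M_b` with centre `rbar`; so `[W_x, W_r] ≤ ⟨b⟩` implies `[W_x, W_r] = 1`, `x ~ b` -/
theorem TrW.com_of_le {u : G} (hm : Mid T V z a r b) (hin : rr V a b ≤ ws V r) (t : TrW V a b c u) (hc : NP b r c)
    (hbx : Col V b x) (hle : rr V x r ≤ zpowers b) : Com V x r := by
  have h := hm.fr
  have md := md_MM h hm.rq.right
  have hfin := finite_Md md
  obtain ⟨g, hr, hb, hr1, hb1⟩ := id hm.rq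
  obtain ⟨U, hU⟩ := md.exists_U h hb hb1
  have bd := t.bd hm hin md hc hb hr hU
  by_contra hncom
  obtain ⟨w, hw, v, hv, hne⟩ : ∃ w ∈ ws V x, ∃ v ∈ ws V r, w * v * w⁻¹ ≠ v := by
    by_contra hno
    push Not at hno
    exact hncom fun w hw v hv => comm_of_conj_eq (hno w hw v hv)
  obtain ⟨k, hk1, hk2⟩ := exists_conj_flag h hm.rq hm.ne_rq.symm hm.rq.symm hm.ne_rq
  have hwr : k * w * k⁻¹ ∈ centralizer ({b} : Set G) := by
    have h1 : w ∈ centralizer ({r} : Set G) := by
      have hM : Mid T V z x b r := { hm.toTwo with pr := hbx.symm, rq := hm.rq.symm, ne := hncom }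
      exact hM.symm.cent hw
    rw [mem_centralizer_singleton_iff] at h1 ⊢
    rw [← hk1]
    calc k * w * k⁻¹ * (k * r * k⁻¹) = k * (w * r) * k⁻¹ := by group
      _ = k * (r * w) * k⁻¹ := by rw [h1]
      _ = k * r * k⁻¹ * (k * w * k⁻¹) := by group
  have hkW : ∀ m ∈ ws V b, k⁻¹ * m * k ∈ ws V r := by
    intro m hm'
    have h1 : cj k (ws V r) = ws V b := by rw [cj_ws, hk1]
    rw [← h1] at hm'
    exact mem_cj.mp hm'
  have hact : ∀ m ∈ ws V b, k * w * k⁻¹ * m * (k * w * k⁻¹)⁻¹ = m ∨ k * w * k⁻¹ * m * (k * w * k⁻¹)⁻¹ = r * m := by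
    intro m hm'
    have h1 := hle (comm_mem_rr hw (hkW m hm'))
    have e : k * w * k⁻¹ * m * (k * w * k⁻¹)⁻¹ = k * (w * (k⁻¹ * m * k) * w⁻¹ * (k⁻¹ * m * k)⁻¹) * k⁻¹ * m := by group
    rw [e]
    rcases (mem_zpowers_iff_of_mul_self (h.pt_sq hm.rq.right)).mp h1 with e' | e'
    · left; rw [e']; group
    · right; rw [e', hk2]
  have hT : Tr (pim V b r) (⟨k * w * k⁻¹, hwr⟩ : centralizer ({b} : Set G)) := by
    refine ⟨fun m => ?_, ?_⟩
    · obtain ⟨e, he, rfl⟩ := md.surj m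
      rw [← md.smul _ e he]
      rcases hact e he with e' | e'
      · left
        change pim V b (k * w * k⁻¹ * e * (k * w * k⁻¹)⁻¹) = _
        rw [e']
      · right
        change pim V b (k * w * k⁻¹ * e * (k * w * k⁻¹)⁻¹) = _
        rw [e', md.map_mul r (h.mem_ws_of_col hm.rq.symm) e he, add_comm]
    · have hkv : k * v * k⁻¹ ∈ ws V b := by
        have := conj_mem_ws k hv
        rwa [hk1] at this
      refine ⟨pim V b (k * v * k⁻¹), ?_⟩
      rw [← md.smul _ _ hkv]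
      change pim V b (k * w * k⁻¹ * (k * v * k⁻¹) * (k * w * k⁻¹)⁻¹) ≠ _
      rcases hact _ hkv with e' | e'
      · exfalso
        apply hne
        calc w * v * w⁻¹ = k⁻¹ * (k * w * k⁻¹ * (k * v * k⁻¹) * (k * w * k⁻¹)⁻¹) * k := by group
          _ = k⁻¹ * (k * v * k⁻¹) * k := by rw [e']
          _ = v := by group
      · rw [e', md.map_mul r (h.mem_ws_of_col hm.rq.symm) _ hkv]
        intro e2
        have e3 : pim V b r = 0 := add_eq_right.mp e2
        rcases (md.ker r (h.mem_ws_of_col hm.rq.symm)).1 e3 with e4 | e4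
        · exact hr1 e4
        · exact hm.ne_rq e4
  obtain ⟨⟨k', hk'⟩, -⟩ := bd.exists_block hT
  exact bd.cl k'⁻¹ (by rw [← hk', inv_smul_smul])

/-- **the opposite point**: an inner pair `(a, b)`, `u ∈ W_a` a transvection of `M_b` with centre `c` not a point: there
is a (D)-triple `(a, b, x, u)` such that `[W_x, W_r] = 1` -/
theorem TrW.opp {u : G} (hm : Mid T V z a r b) (hin : rr V a b ≤ ws V r) (nb : NB V)
    (t : TrW V a b c u) (hc : NP b r c) :
    ∃ x, DT T V z a r b x u ∧ Com V x r := by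
  have h := hm.fr
  have md := md_MM h hm.rq.right
  have hfin := finite_Md md
  obtain ⟨g, hr, hb, hr1, hb1⟩ := id hm.rq
  obtain ⟨U, hU⟩ := md.exists_U h hb hb1
  have bd := t.bd hm hin md hc hb hr hU
  have hrW : r ∈ ws V b := h.mem_ws_of_col hm.rq.symm
  have hcW : c ∈ ws V b := (hm.rr_le t.c_mem).2
  have hcr : c ∈ ws V r := hin t.c_mem
  set π := pim V b with hπ
  have hs : ∀ m : MM V b, m + m = 0 := md.two h hm.rq.right
  have hl0 : π r ≠ 0 := by
    intro e
    rcases (md.ker r hrW).1 e with e | e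
    · exact hr1 e
    · exact hm.ne_rq e
  have hc0 : π c ≠ 0 := π_c_ne hm md t
  have hcl : π r ≠ π c := by
    have := bd.cl 1
    rwa [one_smul] at this
  obtain ⟨s, s1, s3, s4⟩ := bd.opp (t.tr hm md)
  have hsb : (s : G) * b * (s : G)⁻¹ = b := conj_eq_of_comm (mem_centralizer_singleton_iff.mp s.2)
  -- `x = r^s`
  obtain ⟨x, hxdef⟩ : ∃ x : G, x = (s : G) * r * (s : G)⁻¹ := ⟨_, rfl⟩
  have hxW : x ∈ ws V b := by rw [hxdef]; exact TF.conj_mem_ws_of_mem s.2 hrW
  have hπx : π x = s • π r := by rw [hxdef]; exact md.smul s r hrW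
  have hbx : Col V b x := by
    have := hm.rq.symm.conj (s : G)
    rwa [hsb, ← hxdef] at this
  have hμ0 : s • π r ≠ 0 := by rwa [Ne, smul_eq_zero_iff_eq]
  have hxb : x ≠ b := by
    intro e
    apply hμ0
    rw [← hπx, e]
    exact md.map_p h hm.rq.right
  -- `x' = x^u`
  obtain ⟨x', hx'def⟩ : ∃ x' : G, x' = u * x * u⁻¹ := ⟨_, rfl⟩
  have hub : u ∈ centralizer ({b} : Set G) := t.cent hm
  have hx'W : x' ∈ ws V b := by rw [hx'def]; exact TF.conj_mem_ws_of_mem hub hxW
  have hπx' : π x' = s • π r + π c := by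
    have h6 := md.smul ⟨u, hub⟩ x hxW
    change π (u * x * u⁻¹) = _ at h6
    rw [hx'def, h6, hπx, s1]
  have hbx' : Col V b x' := by
    have := hbx.conj u
    rwa [conj_eq_of_comm (mem_centralizer_singleton_iff.mp hub), ← hx'def] at this
  have hxx' : x' ≠ x := by
    intro e
    apply hc0
    have : s • π r + π c = s • π r := by rw [← hπx', ← hπx, e]
    exact add_eq_left.mp this
  have hx'b : x' ≠ b := by
    intro e
    have e1 : s • π r + π c = 0 := by
      rw [← hπx', e]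
      exact md.map_p h hm.rq.right
    have e2 : s • π r = π c := by
      rw [← md.neg_eq h hm.rq.right (π c)]
      exact eq_neg_of_add_eq_zero_left e1
    exact hc0 (s4 _ (Or.inr (Or.inl rfl)) (Or.inr (Or.inr (Or.inr e2.symm))))
  -- LEMMA D
  have hD : ws V x ⊓ ws V x' ≤ ws V b := by
    rcases h.lemD hbx hbx' hxb hx'b with hD | hD
    · exact hD
    exfalso
    have hg : (s : G) * u * (s : G)⁻¹ ∈ centralizer (ws V x : Set G) := by
      have h1 : u ∈ centralizer (ws V r : Set G) := hm.toTwo.ws_le_cent hm.pr t.mem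
      rw [mem_centralizer_iff]
      intro w hw
      have hw' : (s : G)⁻¹ * w * (s : G) ∈ ws V r := by
        have h2 : w ∈ cj (s : G) (ws V r) := by rwa [cj_ws, ← hxdef]
        exact mem_cj.mp h2
      have h3 := mem_centralizer_iff.mp h1 _ hw'
      calc w * ((s : G) * u * (s : G)⁻¹) = (s : G) * (((s : G)⁻¹ * w * (s : G)) * u) * (s : G)⁻¹ := by group
        _ = (s : G) * (u * ((s : G)⁻¹ * w * (s : G))) * (s : G)⁻¹ := by rw [h3]
        _ = _ := by group
    have h1 := (hD _ (mem_sup_left hg)).2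
    have h2 : π ((s : G) * u * (s : G)⁻¹ * x' * ((s : G) * u * (s : G)⁻¹)⁻¹) =
        s • π r + π c + s • π c := by
      have h3 := md.smul (s * ⟨u, hub⟩ * s⁻¹) x' hx'W
      rw [hπx', s3] at h3
      exact h3
    -- the closure
    have key : closure {x, x'} ⊔ nn (ws V b) (kq V b) ≤
        { carrier := {v | v ∈ ws V b ∧ (π v = 0 ∨ π v = s • π r ∨ π v = s • π r + π c ∨ π v = π c)}
          one_mem' := ⟨one_mem _, Or.inl md.map_one⟩
          mul_mem' := by
            rintro v w ⟨hv, hv'⟩ ⟨hw, hw'⟩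
            refine ⟨mul_mem hv hw, ?_⟩
            have e1 : s • π r + (s • π r + π c) = π c := by rw [← add_assoc, hs, zero_add]
            have e2 : s • π r + π c + s • π r = π c := by rw [add_comm, e1]
            have e3 : s • π r + π c + π c = s • π r := by rw [add_assoc, hs, add_zero]
            have e4 : π c + (s • π r + π c) = s • π r := by rw [add_comm, e3]
            have e5 : π c + s • π r = s • π r + π c := add_comm _ _
            rw [md.map_mul v hv w hw]
            rcases hv' with e | e | e | e <;> rcases hw' with e' | e' | e' | e' <;> rw [e, e'] <;>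
              simp only [zero_add, add_zero, hs, e1, e2, e3, e4, e5, true_or, or_true]
          inv_mem' := by
            rintro v ⟨hv, hv'⟩
            refine ⟨inv_mem hv, ?_⟩
            rwa [inv_eq_of_mul_eq_one_left (h.ws_sq hm.rq.right v hv)] } := by
      refine sup_le ((closure_le _).mpr ?_) ?_
      · rintro v (rfl | rfl)
        · exact ⟨hxW, Or.inr (Or.inl hπx)⟩
        · exact ⟨hx'W, Or.inr (Or.inr (Or.inl hπx'))⟩
      · intro v hv
        refine ⟨(mem_nn.mp hv).1, Or.inl ?_⟩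
        rw [md.ker v (mem_nn.mp hv).1]
        exact (mem_zpowers_iff_of_mul_self (h.pt_sq hm.rq.right)).mp (nb b hm.rq.right hv)
    have hcs : s • π c ≠ 0 := by rwa [Ne, smul_eq_zero_iff_eq]
    rcases (key h1).2 with e | e | e | e
    · rw [h2] at e
      -- `c = μ + s c`
      apply hc0
      refine s4 _ (Or.inr (Or.inl rfl)) (Or.inr (Or.inr (Or.inl ?_)))
      have e1 : π c + (s • π c + s • π r) = 0 := by rw [← e]; abel
      rw [← md.neg_eq h hm.rq.right (s • π c + s • π r)]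
      exact eq_neg_of_add_eq_zero_left e1
    · rw [h2] at e
      apply hc0
      refine s4 _ (Or.inr (Or.inl rfl)) (Or.inr (Or.inl ?_))
      rw [add_assoc, add_eq_left] at e
      rw [← md.neg_eq h hm.rq.right (s • π c)]
      exact eq_neg_of_add_eq_zero_left e
    · rw [h2, add_eq_left] at e
      exact hcs e
    · rw [h2] at e
      apply hcl
      have e1 : s • π r + s • π c = 0 := by
        have : s • π r + s • π c + π c = π c := by rw [add_right_comm]; exact e
        exact add_eq_right.mp this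
      rw [← smul_add, smul_eq_zero_iff_eq] at e1
      rw [← md.neg_eq h hm.rq.right (π c)]
      exact eq_neg_of_add_eq_zero_left e1
  refine ⟨x, ⟨hm, hbx, t.mem, by rw [← hx'def]; exact hxx', by rw [← hx'def]; exact hD⟩, ?_⟩
  by_contra hncom
  apply hncom
  refine t.com_of_le hm hin hc hbx ?_
  have hM : Mid T V z x b r := { hm.toTwo with pr := hbx.symm, rq := hm.rq.symm, ne := hncom }
  have hin' : rr V x r ≤ ws V b :=
    rr_le_of_D hm.toTwo hm.pr hm.rq.symm hbx t.mem (by rw [← hx'def]; exact hD)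
  -- `D_xr ≤ ⟨b⟩`
  intro d hd
  have hd1 : d ∈ xx V b r := by
    rw [xx_symm hm.toTwo hm.rq.symm hm.ne_rq.symm]
    revert hd d
    refine (closure_le _).mpr ?_
    rintro _ ⟨w, hw, w', hw', rfl⟩
    exact subset_closure (Or.inr ⟨w', hw', w, hM.bl hin' hw, rfl⟩)
  have hd2 : d ∈ xx V b x := by
    rw [xx_symm hm.toTwo hbx hxb.symm]
    clear hd1
    rw [rr_comm] at hd hin'
    revert hd d
    refine (closure_le _).mpr ?_
    rintro _ ⟨w, hw, w', hw', rfl⟩
    exact subset_closure (Or.inr ⟨w', hw', w, hM.symm.bl hin' hw, rfl⟩)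
  have hdW : d ∈ ws V b := hin' hd
  have c1 := t.xx_cases hm hin md hc hd1
  have hd3 : (s : G)⁻¹ * d * (s : G) ∈ xx V b r := by
    have h1 := conj_mem_xx (s : G)⁻¹ hd2
    have e1 : (s : G)⁻¹ * b * (s : G)⁻¹⁻¹ = b :=
      conj_eq_of_comm (mem_centralizer_singleton_iff.mp (inv_mem s.2))
    have e2 : (s : G)⁻¹ * x * (s : G)⁻¹⁻¹ = r := by rw [hxdef]; group
    rwa [e1, e2, inv_inv] at h1
  have c2 := t.xx_cases hm hin md hc hd3
  have e3 : π d = s • π ((s : G)⁻¹ * d * (s : G)) := by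
    have hd4 : (s : G)⁻¹ * d * (s : G) ∈ ws V b := (xx_le hm.toTwo hm.rq.symm hd3).1
    rw [← md.smul s _ hd4]
    congr 1
    group
  have hd0 : π d = 0 := by
    refine s4 _ c1 ?_
    rw [e3]
    rcases c2 with e | e | e | e
    · left; rw [e, smul_zero]
    · right; left; rw [e]
    · right; right; left; rw [e, smul_add]
    · right; right; right; rw [e]
  exact (mem_zpowers_iff_of_mul_self (h.pt_sq hm.rq.right)).mpr ((md.ker d hdW).1 hd0)

/-- an inner critical pair with `D_ab ≰ ⟨r⟩` and `W_a` generated by transvections of `M_b` -/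
theorem Mid.exists_trW (hm : Mid T V z a r b) (hr : ¬ rr V a b ≤ zpowers r)
    (hgen : ws V a ≤ closure {u | u ∈ ws V a ∧ ∃ c, ∀ w ∈ ws V b, u * w * u⁻¹ = w ∨ u * w * u⁻¹ = c * w}) :
    ∃ c u, c ≠ r ∧ TrW V a b c u := by
  by_contra hno
  push Not at hno
  apply hr
  have hrr : r * r = 1 := hm.fr.pt_sq hm.pr.right
  have hra : r ∈ ws V a := (mem_inf.mp hm.r_mem).1
  have hle : ∀ y ∈ closure {u | u ∈ ws V a ∧ ∃ c, ∀ w ∈ ws V b, u * w * u⁻¹ = w ∨ u * w * u⁻¹ = c * w},
      y ∈ ws V a := by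
    intro y hy
    exact ((closure_le (ws V a)).mpr fun v hv => hv.1) hy
  have hz : ∀ y ∈ ws V a, ∀ v ∈ zpowers r, y * v * y⁻¹ = v := by
    intro y hy v hv
    exact conj_eq_of_comm (hm.fr.ws_comm hm.pr.left y hy v (zpowers_le.mpr hra hv))
  have hcj : ∀ y ∈ ws V a, ∀ w ∈ ws V b, y * w * y⁻¹ ∈ ws V b := fun y hy w hw =>
    TF.conj_mem_ws_of_mem (hm.symm.cent hy) hw
  have hall : ∀ u ∈ ws V a, ∀ w ∈ ws V b, u * w * u⁻¹ * w⁻¹ ∈ zpowers r := by
    intro u hu
    have h1 := hgen hu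
    clear hu
    induction h1 using closure_induction with
    | mem v hv =>
      obtain ⟨hv, c', hc'⟩ := hv
      intro w hw
      by_cases htr : ∀ w ∈ ws V b, v * w * v⁻¹ = w
      · rw [htr w hw, mul_inv_cancel]
        exact one_mem _
      · push Not at htr
        have t' : TrW V a b c' v := ⟨hv, hc', htr⟩
        have e : c' = r := by
          by_contra hne
          exact hno c' v hne t'
        rcases hc' w hw with e' | e'
        · rw [e', mul_inv_cancel]; exact one_mem _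
        · rw [e', mul_inv_cancel_right, e]; exact mem_zpowers r
    | one => intro w _; simp
    | mul y v hy hv ih1 ih2 =>
      intro w hw
      have e : y * v * w * (y * v)⁻¹ * w⁻¹ = (y * (v * w * v⁻¹ * w⁻¹) * y⁻¹) * (y * w * y⁻¹ * w⁻¹) := by group
      rw [e, hz y (hle y hy) _ (ih2 w hw)]
      exact mul_mem (ih2 w hw) (ih1 w hw)
    | inv y hy ih =>
      intro w hw
      have h2 := ih (y⁻¹ * w * y) (by
        have := hcj y⁻¹ (inv_mem (hle y hy)) w hw
        rwa [inv_inv] at this)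
      have e : y⁻¹ * w * y⁻¹⁻¹ * w⁻¹ = (y * (y⁻¹ * w * y) * y⁻¹ * (y⁻¹ * w * y)⁻¹)⁻¹ := by group
      rw [e]
      exact inv_mem h2
  refine (closure_le _).mpr ?_
  rintro _ ⟨u, hu, w, hw, rfl⟩
  exact hall u hu w hw

/-- **the end for `N_b = ⟨b⟩`**: there is no inner pair `(a, b)`, `D_ab ≰ ⟨r⟩`, such that `W_a` is generated by
transvections of `M_b`. `beta` : bb #18281 (`(x, r)` is critical for all (D)-triples) -/
theorem Mid.false_of_inner (hm : Mid T V z a r b) (hin : rr V a b ≤ ws V r) (hr : ¬ rr V a b ≤ zpowers r) (nb : NB V)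
    (beta : ∀ a r b x f, DT T V z a r b x f → ¬ Com V x r)
    (hgen : ws V a ≤ closure {u | u ∈ ws V a ∧ ∃ c, ∀ w ∈ ws V b, u * w * u⁻¹ = w ∨ u * w * u⁻¹ = c * w}) : False := by
  obtain ⟨c, u, hc, t⟩ := hm.exists_trW hr hgen
  obtain ⟨y, hy, hcom⟩ := t.opp hm hin nb (t.np hm hin hc)
  exact beta _ _ _ _ _ hy hcom

end

end Cfsg.Agent.Omega.NO3S.TwoMid
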