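import Cfsg.Agent.Mrg.Omega.NO3S.TwoMid.EndB
import Cfsg.Agent.Mrg.Omega.NO3S.TwoMid.NomML
import Cfsg.Agent.Mrg.Omega.NO3S.TwoMid.Beta.Plug
import Cfsg.Agent.Mrg.Omega.NO3S.TwoMid.Inn.Grp
import Cfsg.Agent.Mrg.Omega.NO3S.TwoOne.Main
import Cfsg.Agent.Mrg.Omega.NO3S.Pt.Plug
import Cfsg.Agent.Mrg.Omega.NO3S.Dual.Basic

section


/-!
# NO-3S, `TwoMid`: the node

* `NPp K` : **(NP)** `N_p = ⟨p⟩` for all points, for a critical pair at distance 2;
* `twoMid_of` : the socket `TwoMid K` of `Node/NO3S.lean` from (ML), (F1), (NP).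
-/

set_option autoImplicit false

namespace Cfsg.Agent.Omega.NO3S.TwoMid

open Subgroup Cfsg Cfsg.Agent.ZN Cfsg.Agent.MinSimple.Geo Cfsg.Agent.Omega.CaseL Cfsg.Agent.Omega.NO3S.TwoOne
  Cfsg.Agent.Omega.NO3S.Pt Cfsg.Agent.Omega.Frame
open Cfsg.Agent.Omega.NOThree.TF (md_MM)
open Cfsg.Agent.Omega.NOThree.LL (noHP_of)
open Cfsg.Agent.Omega.ML.Final (MLK)

universe u

/-- **(NP)** for `TwoMid` -/
def NPp (K : Cls.{u}) : Prop :=
  ∀ (G : Type u) [Group G] [Finite G], K G → ∀ (S : Sylow 2 G) (P : Subgroup G), Hyp S P →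
    Nat.card (zl (S : Subgroup G) P) = 4 → ∀ (z : G) (a r b : G),
      Mid (S : Subgroup G) (zl (S : Subgroup G) P) z a r b → NB (zl (S : Subgroup G) P) ∨ IsKnownSimple' G

/-- `C(p)` is a K-group -/
theorem kgroup_cent {G : Type u} [Group G] [Finite G] (hG : Ctx G) {p : G} (hp : p ≠ 1) :
    IsKGroup (centralizer ({p} : Set G)) := by
  refine hG.kproper _ fun e => ?_
  have hs := hG.simple
  have h1 : p ∈ center G := by
    rw [mem_center_iff]
    intro g
    have : g ∈ centralizer ({p} : Set G) := by rw [e]; exact mem_top g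
    exact mem_centralizer_singleton_iff.mp this
  rcases hs.eq_bot_or_eq_top_of_normal (center G) inferInstance with h2 | h2
  · rw [h2, mem_bot] at h1
    exact hp h1
  · apply hG.nonComm
    refine ⟨⟨fun a b => ?_⟩⟩
    have : a ∈ center G := by rw [h2]; exact mem_top a
    exact (mem_center_iff.mp this b).symm

/-- **no critical pair at distance 2**, `N_b = ⟨b⟩` -/
theorem Mid.false_nb {G : Type u} [Group G] [Finite G] {T V : Subgroup G} {z a r b : G} (h : Mid T V z a r b)
    (hML : MLK.{u, u}) (hK : ∀ p : G, Col V p p → IsKGroup (centralizer ({p} : Set G))) (nb : NB V) :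
    False := by
  have no := nom_of_mlk hML h.fr hK
  have hM : Inn.Grp.NoM V := fun p hp => noHP_of hML h.fr (hK p hp) (md_MM h.fr hp)
  exact h.false_nb_of no nb (Beta.beta no) fun _ _ _ h' hr => Inn.FiveBeg.inn h' hM hr

/-- **`TwoMid`** -/
theorem twoMid_of {K : Cls.{u}} (hML : MLK.{u, u}) (hF : FOneP K) (hNP : NPp K) : NO3S.TwoMid K := by
  intro G _ _ hK S P h hc y hy
  obtain ⟨z, hz1⟩ := Subgroup.ne_bot_iff_exists_ne_one.1
    (MinSimple.Basic.zc_ne_bot S.isPGroup' (h.ctx.sylow_ne_bot S))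
  have hz1' : (z : G) ≠ 1 := fun e => hz1 (Subtype.ext e)
  rcases hF G hK S P h hc z z.2 hz1' with hf | hk
  · have hfr := fr_four h hc z.2 hz1' hf
    obtain ⟨r, hm⟩ := Mid.of_cr hfr (cr_of_crit h hc z.2 hz1' hfr hy)
    rcases hNP G hK S P h hc _ _ _ _ hm with nb | hk
    · exact (hm.false_nb hML (fun p hp => kgroup_cent h.ctx hp.ne_one) nb).elim
    · exact hk
  · exact hk

end Cfsg.Agent.Omega.NO3S.TwoMid

end

section


/-!
# NO-3S, `|V| = 4`, critical distance 2 (TwoMid): no inner pair, `N_b` arbitrary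

The end of `TwoMid/Opp.lean` (bb #18799 (6)-(8), #18802) without `N_b = ⟨b⟩`: if LEMMA D fails for the opposite point
`x = r^s`, then `s c ∈ ⟨s λ, c⟩ + N̄_b`; `u^s` and `N_b ∩ W_r = ⟨b⟩` give a contradiction.

* `TrW.oppN`, `Mid.false_of_innerN` : no inner pair `(a, b)` with `D_ab ≰ ⟨r⟩`;
* `Mid.bad_of`, `Mid.bad` : (D) fails for all `(f, h)`, `f ∈ W_a`, `h` inverted by `f`; `noD_two` : the same over `Cr V 2`.
-/

set_option autoImplicit false
set_option linter.unusedSectionVars false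

namespace Cfsg.Agent.Omega.NO3S.TwoMid

open Subgroup Cfsg Cfsg.Agent.ZN Cfsg.Agent.MinSimple.Geo Cfsg.Agent.Omega.CaseL Cfsg.Agent.Omega.NO3S.TwoOne
  Cfsg.Agent.Omega.NO3S.Pt
open Cfsg.Agent.Omega.NO3S.TypeN (exists_conj_flag)
open Cfsg.Agent.Omega.NO3S.Dual (nn mem_nn DW mem_sup_of_comm)
open Cfsg.Agent.ZN.Block (conj_mem_of_normalizer conj_mem_of_normalizer' le_normalizer_of_forall
  mem_normalizer_of)
open Cfsg.Agent.Omega.NOThree
open Cfsg.Agent.Omega.NOThree.TF (Md MM pim md_MM)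
open Cfsg.Agent.Omega.NOThree.LL (BD Tr bd_of_tr finite_Md exists_nb span_pt pt_conj noHP_of)
open Cfsg.Agent.Omega.ML.Final (MLK)

universe u

variable {G : Type u} [Group G] {T V : Subgroup G} {z : G} {a b c r x : G}

section

variable [Finite G]

/-- (D1) `N_p ∩ W_q ≤ ⟨p⟩` for collinear `p ≠ q` -/
theorem nn_inf_le (h : Fr T V z) {p q : G} (hpq : Col V p q) (hne : p ≠ q) :
    nn (ws V p) (kq V p) ⊓ ws V q ≤ zpowers p := by
  obtain ⟨g, hp, hq, hp1, hq1⟩ := hpq
  obtain ⟨k, -, -, hf⟩ := h.flag hp hp1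
  have h1 := hf.toFlag.nn_inf hp hp1 hq hq1 (Ne.symm hne)
  rw [ws_cj, kq_cj, ws_cj] at h1
  exact h1.le

/-- **the opposite point**, `N_b` arbitrary -/
theorem TrW.oppN {u : G} (hm : Mid T V z a r b) (hin : rr V a b ≤ ws V r) (t : TrW V a b c u)
    (hc : NP b r c) :
    ∃ x, DT T V z a r b x u ∧ Com V x r := by
  have h := hm.fr
  have md := md_MM h hm.rq.right
  have hfin := finite_Md md
  obtain ⟨g, hr, hb, hr1, hb1⟩ := id hm.rq
  obtain ⟨U, hU⟩ := md.exists_U h hb hb1
  have bd := t.bd hm hin md hc hb hr hU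
  have hrW : r ∈ ws V b := h.mem_ws_of_col hm.rq.symm
  have hcW : c ∈ ws V b := (hm.rr_le t.c_mem).2
  have hcr : c ∈ ws V r := hin t.c_mem
  set π := pim V b with hπ
  have hs : ∀ m : MM V b, m + m = 0 := md.two h hm.rq.right
  have hl0 : π r ≠ 0 := by
    intro e
    rcases (md.ker r hrW).1 e with e | e
    · exact hr1 e
    · exact hm.ne_rq e
  have hc0 : π c ≠ 0 := π_c_ne hm md t
  have hcl : π r ≠ π c := by
    have := bd.cl 1
    rwa [one_smul] at this
  obtain ⟨s, s1, s3, s4⟩ := bd.opp (t.tr hm md)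
  have hsb : (s : G) * b * (s : G)⁻¹ = b := conj_eq_of_comm (mem_centralizer_singleton_iff.mp s.2)
  -- `x = r^s`
  obtain ⟨x, hxdef⟩ : ∃ x : G, x = (s : G) * r * (s : G)⁻¹ := ⟨_, rfl⟩
  have hxW : x ∈ ws V b := by rw [hxdef]; exact TF.conj_mem_ws_of_mem s.2 hrW
  have hπx : π x = s • π r := by rw [hxdef]; exact md.smul s r hrW
  have hbx : Col V b x := by
    have := hm.rq.symm.conj (s : G)
    rwa [hsb, ← hxdef] at this
  have hμ0 : s • π r ≠ 0 := by rwa [Ne, smul_eq_zero_iff_eq]
  have hxb : x ≠ b := by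
    intro e
    apply hμ0
    rw [← hπx, e]
    exact md.map_p h hm.rq.right
  -- `x' = x^u`
  obtain ⟨x', hx'def⟩ : ∃ x' : G, x' = u * x * u⁻¹ := ⟨_, rfl⟩
  have hub : u ∈ centralizer ({b} : Set G) := t.cent hm
  have hx'W : x' ∈ ws V b := by rw [hx'def]; exact TF.conj_mem_ws_of_mem hub hxW
  have hπx' : π x' = s • π r + π c := by
    have h6 := md.smul ⟨u, hub⟩ x hxW
    change π (u * x * u⁻¹) = _ at h6
    rw [hx'def, h6, hπx, s1]
  have hbx' : Col V b x' := by
    have := hbx.conj u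
    rwa [conj_eq_of_comm (mem_centralizer_singleton_iff.mp hub), ← hx'def] at this
  have hxx' : x' ≠ x := by
    intro e
    apply hc0
    have : s • π r + π c = s • π r := by rw [← hπx', ← hπx, e]
    exact add_eq_left.mp this
  have hx'b : x' ≠ b := by
    intro e
    have e1 : s • π r + π c = 0 := by
      rw [← hπx', e]
      exact md.map_p h hm.rq.right
    have e2 : s • π r = π c := by
      rw [← md.neg_eq h hm.rq.right (π c)]
      exact eq_neg_of_add_eq_zero_left e1
    exact hc0 (s4 _ (Or.inr (Or.inl rfl)) (Or.inr (Or.inr (Or.inr e2.symm))))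
  -- LEMMA D
  have hD : ws V x ⊓ ws V x' ≤ ws V b := by
    rcases h.lemD hbx hbx' hxb hx'b with hD | hD
    · exact hD
    exfalso
    have hg : (s : G) * u * (s : G)⁻¹ ∈ centralizer (ws V x : Set G) := by
      have h1 : u ∈ centralizer (ws V r : Set G) := hm.toTwo.ws_le_cent hm.pr t.mem
      rw [mem_centralizer_iff]
      intro w hw
      have hw' : (s : G)⁻¹ * w * (s : G) ∈ ws V r := by
        have h2 : w ∈ cj (s : G) (ws V r) := by rwa [cj_ws, ← hxdef]
        exact mem_cj.mp h2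
      have h3 := mem_centralizer_iff.mp h1 _ hw'
      calc w * ((s : G) * u * (s : G)⁻¹) = (s : G) * (((s : G)⁻¹ * w * (s : G)) * u) * (s : G)⁻¹ := by group
        _ = (s : G) * (u * ((s : G)⁻¹ * w * (s : G))) * (s : G)⁻¹ := by rw [h3]
        _ = _ := by group
    have h1 := (hD _ (mem_sup_left hg)).2
    have h2 : π ((s : G) * u * (s : G)⁻¹ * x' * ((s : G) * u * (s : G)⁻¹)⁻¹) =
        s • π r + π c + s • π c := by
      have h3 := md.smul (s * ⟨u, hub⟩ * s⁻¹) x' hx'W
      rw [hπx', s3] at h3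
      exact h3
    -- the closure

    have hcN : ∀ m : MM V b, m ∈ LL.NB V b π → m = π c → False := by
      rintro m hm1 rfl
      obtain ⟨n, hn, hn1⟩ := (LL.mem_NB h hm.rq.right md).1 hm1
      have h3 : c ∈ nn (ws V b) (kq V b) := by
        rcases (md.eq_iff h hm.rq.right hn.1 hcW).1 hn1 with e | e
        · rwa [← e]
        · have hbn : b ∈ nn (ws V b) (kq V b) := mem_nn.2 ⟨h.mem_ws_self hm.rq.right, fun k hk =>
            mem_centralizer_singleton_iff.mp (kq_le_centralizer V b hk)⟩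
          have e1 : c = b * n := by rw [e, ← mul_assoc, h.pt_sq hm.rq.right, one_mul]
          rw [e1]
          exact mul_mem hbn hn
      have h4 := nn_inf_le h hm.rq.symm hm.ne_rq.symm ⟨h3, hcr⟩
      exact hc0 ((md.ker c hcW).2 ((mem_zpowers_iff_of_mul_self (h.pt_sq hm.rq.right)).1 h4))
    have hdN : ∀ m : MM V b, m ∈ LL.NB V b π → m = π r + π c → False := by
      intro m hm1 e
      have hrc : r * c ∈ ws V b := mul_mem hrW hcW
      rw [← md.map_mul r hrW c hcW] at e
      rw [e] at hm1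
      obtain ⟨n, hn, hn1⟩ := (LL.mem_NB h hm.rq.right md).1 hm1
      have h3 : r * c ∈ nn (ws V b) (kq V b) := by
        rcases (md.eq_iff h hm.rq.right hn.1 hrc).1 hn1 with e | e
        · rwa [← e]
        · have hbn : b ∈ nn (ws V b) (kq V b) := mem_nn.2 ⟨h.mem_ws_self hm.rq.right, fun k hk =>
            mem_centralizer_singleton_iff.mp (kq_le_centralizer V b hk)⟩
          have e1 : r * c = b * n := by rw [e, ← mul_assoc, h.pt_sq hm.rq.right, one_mul]
          rw [e1]
          exact mul_mem hbn hn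
      have h4 := nn_inf_le h hm.rq.symm hm.ne_rq.symm ⟨h3, mul_mem (h.mem_ws_self hm.rq.left) hcr⟩
      have h5 := (md.ker (r * c) hrc).2 ((mem_zpowers_iff_of_mul_self (h.pt_sq hm.rq.right)).1 h4)
      rw [md.map_mul r hrW c hcW] at h5
      apply hcl
      rw [← md.neg_eq h hm.rq.right (π c)]
      exact eq_neg_of_add_eq_zero_left h5
    have hsN : ∀ m : MM V b, m ∈ LL.NB V b π → m = s • π c → False := by
      intro m hm1 e
      refine hcN _ (LL.smul_mem_NB h hm.rq.right md s⁻¹ hm1) ?_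
      rw [e, inv_smul_smul]
    -- the action of `s u s⁻¹`
    set U' : centralizer ({b} : Set G) := s * ⟨u, hub⟩ * s⁻¹ with hU'
    have huc : (⟨u, hub⟩ : centralizer ({b} : Set G)) • π c = π c := by
      have h3 := md.smul ⟨u, hub⟩ c hcW
      rw [← h3]
      congr 1
      change u * c * u⁻¹ = c
      exact conj_eq_of_comm (mem_centralizer_iff.mp (hm.toTwo.ws_le_cent hm.pr t.mem) c hcr).symm
    have hur : (⟨u, hub⟩ : centralizer ({b} : Set G)) • π r = π r := by
      have h3 := md.smul ⟨u, hub⟩ r hrW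
      rw [← h3]
      congr 1
      change u * r * u⁻¹ = r
      exact conj_eq_of_comm (mem_centralizer_iff.mp (hm.toTwo.ws_le_cent hm.pr t.mem) r
        (h.mem_ws_self hm.rq.left)).symm
    have a1 : U' • s • π c = s • π c := by
      rw [hU', mul_smul, mul_smul, inv_smul_smul, huc]
    have a2 : U' • s • π r = s • π r := by
      rw [hU', mul_smul, mul_smul, inv_smul_smul, hur]
    have a3 : U' • π c = π c + s • π c := by
      have h3 : U' • (s • π r + π c) = s • π r + π c + s • π c := s3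
      rw [smul_add, a2, add_assoc] at h3
      exact add_left_cancel h3
    obtain ⟨v, hv, n, hn, hvn⟩ := mem_sup_of_comm (h.ws_comm hm.rq.right) (A := closure {x, x'})
      (by
        rw [closure_le]
        rintro y (rfl | rfl)
        · exact hxW
        · exact hx'W) (inf_le_left : nn (ws V b) (kq V b) ≤ ws V b) h1
    have hnW : n ∈ ws V b := (mem_nn.1 hn).1
    have hnN : π n ∈ LL.NB V b π := (LL.mem_NB h hm.rq.right md).2 ⟨n, hn, rfl⟩
    have hvW : v ∈ ws V b ∧ (π v = 0 ∨ π v = s • π r ∨ π v = s • π r + π c ∨ π v = π c) := by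
      have key : closure {x, x'} ≤
          { carrier := {v | v ∈ ws V b ∧ (π v = 0 ∨ π v = s • π r ∨ π v = s • π r + π c ∨ π v = π c)}
            one_mem' := ⟨one_mem _, Or.inl md.map_one⟩
            mul_mem' := by
              rintro v w ⟨hv, hv'⟩ ⟨hw, hw'⟩
              refine ⟨mul_mem hv hw, ?_⟩
              have e1 : s • π r + (s • π r + π c) = π c := by rw [← add_assoc, hs, zero_add]
              have e2 : s • π r + π c + s • π r = π c := by rw [add_comm, e1]
              have e3 : s • π r + π c + π c = s • π r := by rw [add_assoc, hs, add_zero]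
              have e4 : π c + (s • π r + π c) = s • π r := by rw [add_comm, e3]
              have e5 : π c + s • π r = s • π r + π c := add_comm _ _
              rw [md.map_mul v hv w hw]
              rcases hv' with e | e | e | e <;> rcases hw' with e' | e' | e' | e' <;> rw [e, e'] <;>
                simp only [zero_add, add_zero, hs, e1, e2, e3, e4, e5, true_or, or_true]
            inv_mem' := by
              rintro v ⟨hv, hv'⟩
              refine ⟨inv_mem hv, ?_⟩
              rwa [inv_eq_of_mul_eq_one_left (h.ws_sq hm.rq.right v hv)] } := by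
        refine (closure_le _).mpr ?_
        rintro v (rfl | rfl)
        · exact ⟨hxW, Or.inr (Or.inl hπx)⟩
        · exact ⟨hx'W, Or.inr (Or.inr (Or.inl hπx'))⟩
      exact key hv
    have e0 : s • π r + π c + s • π c = π v + π n := by
      rw [← h2, ← md.map_mul v hvW.1 n hnW, ← hvn]
    have eN : π n = s • π r + π c + s • π c + π v := by
      rw [e0, add_comm (π v), add_assoc, hs, add_zero]
    have hinv : U' • π n + π n ∈ LL.NB V b π := add_mem (LL.smul_mem_NB h hm.rq.right md U' hnN) hnN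
    rcases hvW.2 with e | e | e | e
    · refine hsN _ hinv ?_
      rw [eN, e, add_zero, smul_add, smul_add, a1, a2, a3]
      have : s • π r + (π c + s • π c) + s • π c + (s • π r + π c + s • π c) =
        (s • π r + s • π r) + (π c + π c) + (s • π c + s • π c) + s • π c := by abel
      rw [this, hs (s • π r), hs (π c), hs (s • π c), zero_add, zero_add, zero_add]
    · refine hsN _ hinv ?_
      rw [eN, e]
      have e6 : s • π r + π c + s • π c + s • π r = π c + s • π c := by
        have : s • π r + π c + s • π c + s • π r = (s • π r + s • π r) + (π c + s • π c) := by abel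
        rw [this, hs, zero_add]
      rw [e6, smul_add, a1, a3]
      have : π c + s • π c + s • π c + (π c + s • π c) =
        (π c + π c) + (s • π c + s • π c) + s • π c := by abel
      rw [this, hs (π c), hs (s • π c), zero_add, zero_add]
    · refine hsN _ hnN ?_
      rw [eN, e]
      have : s • π r + π c + s • π c + (s • π r + π c) =
        (s • π r + s • π r) + (π c + π c) + s • π c := by abel
      rw [this, hs (s • π r), hs (π c), zero_add, zero_add]
    · refine hdN (s⁻¹ • π n) (LL.smul_mem_NB h hm.rq.right md s⁻¹ hnN) ?_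
      rw [eN, e]
      have : s • π r + π c + s • π c + π c = s • (π r + π c) := by
        rw [smul_add]
        have : s • π r + π c + s • π c + π c = s • π r + s • π c + (π c + π c) := by abel
        rw [this, hs, add_zero]
      rw [this, inv_smul_smul]
  refine ⟨x, ⟨hm, hbx, t.mem, by rw [← hx'def]; exact hxx', by rw [← hx'def]; exact hD⟩, ?_⟩
  by_contra hncom
  apply hncom
  refine t.com_of_le hm hin hc hbx ?_
  have hM : Mid T V z x b r := { hm.toTwo with pr := hbx.symm, rq := hm.rq.symm, ne := hncom }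
  have hin' : rr V x r ≤ ws V b :=
    rr_le_of_D hm.toTwo hm.pr hm.rq.symm hbx t.mem (by rw [← hx'def]; exact hD)
  -- `D_xr ≤ ⟨b⟩`
  intro d hd
  have hd1 : d ∈ xx V b r := by
    rw [xx_symm hm.toTwo hm.rq.symm hm.ne_rq.symm]
    revert hd d
    refine (closure_le _).mpr ?_
    rintro _ ⟨w, hw, w', hw', rfl⟩
    exact subset_closure (Or.inr ⟨w', hw', w, hM.bl hin' hw, rfl⟩)
  have hd2 : d ∈ xx V b x := by
    rw [xx_symm hm.toTwo hbx hxb.symm]
    clear hd1
    rw [rr_comm] at hd hin'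
    revert hd d
    refine (closure_le _).mpr ?_
    rintro _ ⟨w, hw, w', hw', rfl⟩
    exact subset_closure (Or.inr ⟨w', hw', w, hM.symm.bl hin' hw, rfl⟩)
  have hdW : d ∈ ws V b := hin' hd
  have c1 := t.xx_cases hm hin md hc hd1
  have hd3 : (s : G)⁻¹ * d * (s : G) ∈ xx V b r := by
    have h1 := conj_mem_xx (s : G)⁻¹ hd2
    have e1 : (s : G)⁻¹ * b * (s : G)⁻¹⁻¹ = b :=
      conj_eq_of_comm (mem_centralizer_singleton_iff.mp (inv_mem s.2))
    have e2 : (s : G)⁻¹ * x * (s : G)⁻¹⁻¹ = r := by rw [hxdef]; group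
    rwa [e1, e2, inv_inv] at h1
  have c2 := t.xx_cases hm hin md hc hd3
  have e3 : π d = s • π ((s : G)⁻¹ * d * (s : G)) := by
    have hd4 : (s : G)⁻¹ * d * (s : G) ∈ ws V b := (xx_le hm.toTwo hm.rq.symm hd3).1
    rw [← md.smul s _ hd4]
    congr 1
    group
  have hd0 : π d = 0 := by
    refine s4 _ c1 ?_
    rw [e3]
    rcases c2 with e | e | e | e
    · left; rw [e, smul_zero]
    · right; left; rw [e]
    · right; right; left; rw [e, smul_add]
    · right; right; right; rw [e]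
  exact (mem_zpowers_iff_of_mul_self (h.pt_sq hm.rq.right)).mpr ((md.ker d hdW).1 hd0)

/-- **no inner pair** `(a, b)`, `D_ab ≰ ⟨r⟩`, such that `W_a` is generated by transvections of `M_b`, `N_b` arbitrary -/
theorem Mid.false_of_innerN (hm : Mid T V z a r b) (hin : rr V a b ≤ ws V r) (hr : ¬ rr V a b ≤ zpowers r)
    (beta : ∀ a r b x f, DT T V z a r b x f → ¬ Com V x r)
    (hgen : ws V a ≤ closure {u | u ∈ ws V a ∧ ∃ c, ∀ w ∈ ws V b, u * w * u⁻¹ = w ∨ u * w * u⁻¹ = c * w}) : False := by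
  obtain ⟨c, u, hc, t⟩ := hm.exists_trW hr hgen
  obtain ⟨y, hy, hcom⟩ := t.oppN hm hin (t.np hm hin hc)
  exact beta _ _ _ _ _ hy hcom

/-- (D) fails for all `(f, h)`, if not TYPE N -/
theorem Mid.bad_of {f h : G} (s : Alpha.Sit T V z a r b f h) (hN : ¬ TyN T V z)
    (beta : ∀ a r b x f, DT T V z a r b x f → ¬ Com V x r)
    (inn : ∀ a r b, Mid T V z a r b → rr V a b ≤ ws V r → ws V a ≤ closure {u | u ∈ ws V a ∧
      ∃ c, ∀ w ∈ ws V b, u * w * u⁻¹ = w ∨ u * w * u⁻¹ = c * w}) :
    ¬ ws V (h * r * h⁻¹) ⊓ ws V (f * (h * r * h⁻¹) * f⁻¹) ≤ ws V b := by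
  intro hD
  have hdt : DT T V z a r b (h * r * h⁻¹) f :=
    { mid := s.mid
      col := s.bx
      mem := s.f_mem
      ne := s.fx_ne
      le := hD }
  have hcom := beta _ _ _ _ _ hdt
  have hm' : Mid T V z (h * r * h⁻¹) b r :=
    { s.mid.toTwo with pr := hdt.col.symm, rq := s.mid.rq.symm, ne := hcom }
  have hin : rr V (h * r * h⁻¹) r ≤ ws V b :=
    rr_le_of_D s.mid.toTwo s.mid.pr s.mid.rq.symm hdt.col hdt.mem hdt.le
  exact hm'.false_of_innerN hin (s.not_le hN hcom) beta (inn _ _ _ hm' hin)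

end

/-- **(BAD)** : (NO) implies that (D) fails for all `(f, h)` of all critical pairs (distance 2) -/
theorem Mid.bad [Finite G] (hML : MLK.{u, u}) {f h : G} (s : Alpha.Sit T V z a r b f h)
    (hK : ∀ p : G, Col V p p → IsKGroup (centralizer ({p} : Set G))) :
    ¬ ws V (h * r * h⁻¹) ⊓ ws V (f * (h * r * h⁻¹) * f⁻¹) ≤ ws V b := by
  have no := nom_of_mlk hML s.mid.fr hK
  have hM : Inn.Grp.NoM V := fun p hp => noHP_of hML s.mid.fr (hK p hp) (md_MM s.mid.fr hp)
  exact Mid.bad_of s (fun hN => TypeN.false_of_tyN hN s.mid) (Beta.beta no) fun _ _ _ h' hr =>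
    Inn.FiveBeg.inn h' hM hr

/-- **no (D)-mover** at critical distance 2, over `Cr V 2` (helper56 #21024) -/
theorem noD_two [Finite G] (hML : MLK.{u, u}) (hF : Fr T V z)
    (hK : ∀ p : G, Col V p p → IsKGroup (centralizer ({p} : Set G))) {p q r : G} (hc : Cr V 2 p q)
    (hpr : Col V p r) (hrq : Col V r q) {f h : G} (hf : f ∈ ws V q) (hhp : h * p = p * h)
    (ho : Odd (orderOf h)) (hi : f * h * f⁻¹ = h⁻¹) (hh : h ≠ 1) :
    ¬ ws V (h * r * h⁻¹) ⊓ ws V (f * (h * r * h⁻¹) * f⁻¹) ≤ ws V p :=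
  Mid.bad hML (a := q) (r := r) (b := p)
    ⟨⟨⟨hF, hc.min⟩, hrq.symm, hpr.symm, fun e => hc.ne e.symm⟩, hf, ⟨hhp, ho, hi⟩, hh⟩ hK

end Cfsg.Agent.Omega.NO3S.TwoMid

end

section


/-!
# The world `W0` (#21024 of helper56) at critical distance 2

* `nosw_two` : no `x ∼ p`, `f ∈ W_q` with `x^f = p x` (`p ∉ W_q`);
* `wz_two` : the world `Wz T V z 2` from (ML).
-/

set_option autoImplicit false
set_option linter.unusedSectionVars false

namespace Cfsg.Agent.Omega.NO3S.WZero

open Subgroup Cfsg Cfsg.Agent.ZN Cfsg.Agent.MinSimple.Geo Cfsg.Agent.Omega.CaseL Cfsg.Agent.Omega.NO3S.TwoOne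
open Cfsg.Agent.Omega.NO3S.Pt
open Cfsg.Agent.Omega.NO3S.Dual (nn mem_nn DW)
open Cfsg.Agent.Omega.NO3S.TwoMid
open Cfsg.Agent.Omega.ML.Final (MLK)

universe u

variable {G : Type u} [Group G] [Finite G] {T V : Subgroup G} {z p q : G}

/-- a critical pair at distance 2 with its middle -/
theorem exists_mid_two (h : Fr T V z) (hc : Cr V 2 p q) : ∃ r, Mid T V z q r p := by
  obtain ⟨r, h1, h2⟩ := hc.path.exists_mid
  exact ⟨r, ⟨⟨h, hc.min⟩, h2.symm, h1.symm, fun e => hc.ne e.symm⟩⟩

theorem nosw_two (h : Fr T V z) (hc : Cr V 2 p q) {x f : G} (hx : Col V p x) (hf : f ∈ ws V q) :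
    f * x * f⁻¹ ≠ p * x := by
  obtain ⟨r, hm⟩ := exists_mid_two h hc
  intro e
  have hxW : x ∈ ws V p := h.mem_ws_of_col hx
  have h1 : f * x * f⁻¹ * x⁻¹ = p := by rw [e, mul_inv_cancel_right]
  have h2 := comm_mem_rr hf hxW
  rw [h1] at h2
  exact hm.not_mem' (mem_inf.mp (hm.rr_le h2)).1

/-- **the world `W0`, `n = 2`** -/
theorem wz_two (hML : MLK.{u, u}) (h : Fr T V z)
    (hK : ∀ p : G, Col V p p → IsKGroup (centralizer ({p} : Set G))) (hno : NoOv V) : Wz T V z 2 where
  fr := h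
  two := le_rfl
  noov := hno
  nosw := fun _ _ hc _ _ hx _ hf => nosw_two h hc hx hf
  noD := fun _ _ _ hc hpr _ hrq _ _ hf hhp ho hi hh _ => noD_two hML h hK hc hpr hrq.col hf hhp ho hi hh

end Cfsg.Agent.Omega.NO3S.WZero

end
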