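import Cfsg.Agent.Mrg.Omega.NO3S.TwoMid.NOm
import Cfsg.Agent.Mrg.Omega.NO3S.TypeN.Base

section


/-!
# NO-3S, `|V| = 4`, critical distance 2 (TwoMid): THEOREMS TQ, TQ' at the group level

`M_b = W_b / ⟨b⟩`, `H_b = C_G(b) / K_b`, `Q_y = U_y K_b`.

* `Md b y u w` : `[u, w] ∈ ⟨b⟩ ∪ y ⟨b⟩`; `Tvg V b y t` : `t` acts on `M_b` as a transvection with centre `y` (not trivially);
* `md_of` : if `t ∈ U_y` is a transvection with centre `y` and either all `U_y` are quadratic on `M_b`, or there is a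
  second transvection, then `[W_b, U_y] ≤ ⟨b, y⟩` for all `y ~ b`;
* `tyN_of_md`, **`tyN_of_tv`** (quadratic case), **`tyN_of_two`** (two transvections) : TYPE N.
-/

set_option autoImplicit false
set_option linter.unusedSectionVars false

namespace Cfsg.Agent.Omega.NO3S.TwoMid

open Subgroup Cfsg Cfsg.Agent.ZN Cfsg.Agent.MinSimple.Geo Cfsg.Agent.Omega.CaseL Cfsg.Agent.Omega.NO3S.TwoOne
  Cfsg.Agent.Omega.NO3S.Pt
open Cfsg.Agent.Omega.NO3S.Dual (nn mem_nn DW mem_sup_of_comm)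
open Cfsg.Agent.Omega.NO3S.TypeN (exists_conj_flag le_kq_pt)
open Cfsg.Agent.ZN.Block (conj_mem_of_normalizer conj_mem_of_normalizer' le_normalizer_of_forall
  mem_normalizer_of)

universe u

variable {G : Type u} [Group G] {T V : Subgroup G} {z : G} {a b r x y : G}

/-- `C` acts on `W / Y` by conjugation -/
abbrev conjAct {C W Y : Subgroup G} (hW : C ≤ normalizer (W : Set G)) (hY : C ≤ normalizer (Y : Set G))
    [(Y.subgroupOf W).Normal] : MulDistribMulAction C (W ⧸ Y.subgroupOf W) :=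
  let f : C → (W →* W) := fun g =>
    { toFun := fun x => ⟨(g : G) * x * (g : G)⁻¹, (mem_normalizer_iff.1 (hW g.2) x).1 x.2⟩
      map_one' := Subtype.ext (by simp)
      map_mul' := fun x y => Subtype.ext (by
        change (g : G) * ((x : G) * y) * (g : G)⁻¹ = (g : G) * x * (g : G)⁻¹ * ((g : G) * y * (g : G)⁻¹)
        group) }
  { smul := fun g => QuotientGroup.map (Y.subgroupOf W) (Y.subgroupOf W) (f g) fun x hx =>
      (mem_normalizer_iff.1 (hY g.2) x).1 hx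
    one_smul := by
      rintro ⟨x⟩
      refine congrArg (QuotientGroup.mk (s := Y.subgroupOf W)) (Subtype.ext ?_)
      change (1 : G) * (x : G) * (1 : G)⁻¹ = x
      group
    mul_smul := by
      rintro g k ⟨x⟩
      refine congrArg (QuotientGroup.mk (s := Y.subgroupOf W)) (Subtype.ext ?_)
      change ((g : G) * k) * (x : G) * ((g : G) * k)⁻¹ = (g : G) * ((k : G) * x * (k : G)⁻¹) * (g : G)⁻¹
      group
    smul_mul := fun g x y => map_mul (QuotientGroup.map _ _ (f g) _) x y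
    smul_one := fun g => map_one (QuotientGroup.map _ _ (f g) _) }

/-- `[u, w] ∈ ⟨b⟩ ∪ y ⟨b⟩` -/
def Md (b y u w : G) : Prop := u * w * u⁻¹ * w⁻¹ ∈ zpowers b ∨ u * w * u⁻¹ * w⁻¹ * y⁻¹ ∈ zpowers b

/-- `t` acts on `M_b` as a transvection with centre `y` -/
structure Tvg (V : Subgroup G) (b y t : G) : Prop where
  md : ∀ w ∈ ws V b, Md b y t w
  ne : ∃ w ∈ ws V b, t * w * t⁻¹ * w⁻¹ ∉ zpowers b

/-- all `U_y` are quadratic on `M_b` -/
def QuadB (V : Subgroup G) (b : G) : Prop :=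
  ∀ y, Col V b y → y ≠ b → ∀ u ∈ uu V y, ∀ u' ∈ uu V y, ∀ w ∈ ws V b,
    u' * (u * w * u⁻¹ * w⁻¹) * u'⁻¹ * (u * w * u⁻¹ * w⁻¹)⁻¹ ∈ zpowers b

section

variable [Finite G]

theorem md_of (h : Two T V z) {y₀ t : G} (hy₀ : Col V b y₀) (hne₀ : y₀ ≠ b) (ht : t ∈ uu V y₀)
    (htv : Tvg V b y₀ t) (hcase : QuadB V b ∨ ∃ t' ∈ uu V y₀, Tvg V b y₀ t' ∧
      ∃ w ∈ ws V b, (t * w * t⁻¹) * (t' * w * t'⁻¹)⁻¹ ∉ zpowers b) :
    ∀ y, Col V b y → y ≠ b → ∀ u ∈ uu V y, ∀ w ∈ ws V b, Md b y u w := by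
  have hb : Col V b b := hy₀.left
  set W := ws V b with hW
  set Y := zpowers b with hY
  set C := centralizer ({b} : Set G) with hC
  have hWC : W ≤ C := h.fr.ws_le_cent hb
  have hbW : b ∈ W := h.fr.mem_ws_self hb
  have hbb : b * b = 1 := h.fr.pt_sq hb
  have nW : C ≤ normalizer (W : Set G) := centralizer_le_normalizer_ws V b
  have nY : C ≤ normalizer (Y : Set G) := zpowers_norm le_rfl
  have hN : (Y.subgroupOf W).Normal := normal_subgroupOf_of_le_normalizer (hWC.trans nY)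
  let _ := conjAct nW nY
  let mk : W →* (W ⧸ Y.subgroupOf W) := QuotientGroup.mk' (Y.subgroupOf W)
  have hmk : Function.Surjective mk := QuotientGroup.mk'_surjective _
  have hmem : ∀ (g : C) (x : W), (g : G) * x * (g : G)⁻¹ ∈ W := fun g x =>
    (mem_normalizer_iff.1 (nW g.2) x).1 x.2
  have hsm : ∀ (g : C) (x : W), g • mk x = mk ⟨(g : G) * x * (g : G)⁻¹, hmem g x⟩ := fun _ _ => rfl
  have hone : ∀ x y : W, mk x = mk y ↔ (x : G) * (y : G)⁻¹ ∈ Y := by
    intro x y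
    rw [← mul_inv_eq_one, ← map_inv, ← map_mul, ← MonoidHom.mem_ker, QuotientGroup.ker_mk']
    exact Iff.rfl
  have hone' : ∀ x : W, mk x = 1 ↔ (x : G) ∈ Y := by
    intro x
    rw [← MonoidHom.mem_ker, QuotientGroup.ker_mk']
    exact Iff.rfl
  have hfix : ∀ (g : C) (x : W), g • mk x = mk x ↔ (g : G) * x * (g : G)⁻¹ * (x : G)⁻¹ ∈ Y := by
    intro g x
    rw [hsm g x, hone]
  have hcommW := h.fr.ws_comm hb
  have hsqW := h.fr.ws_sq hb
  -- points
  let Om : Set (W ⧸ Y.subgroupOf W) := {m | ∃ y, ∃ hy : Col V b y, y ≠ b ∧ m = mk ⟨y, h.fr.mem_ws_of_col hy⟩}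
  let X : G → Subgroup C := fun y => (uu V y ⊔ kq V b).subgroupOf C
  let Q : (W ⧸ Y.subgroupOf W) → Subgroup C := fun m =>
    ⨆ y : {y : G // ∃ hy : Col V b y, y ≠ b ∧ m = mk ⟨y, h.fr.mem_ws_of_col hy⟩}, X y
  have hkC : kq V b ≤ C := kq_le_centralizer V b
  have hUC : ∀ y, Col V b y → uu V y ≤ C := fun y hy => uu_le_centralizer h hy.symm
  have hX : ∀ y, Col V b y → y ≠ b → ∀ y', Col V b y' → y' ≠ b → y * y'⁻¹ ∈ Y → X y' ≤ X y := by
    intro y hy hyb y' hy' hyb' hyy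
    have hyi : y'⁻¹ = y' := inv_eq_self (h.fr.pt_sq hy'.right)
    rcases (mem_zpowers_iff_of_mul_self hbb).mp hyy with e | e
    · rw [mul_inv_eq_one.mp e]
    · -- `y' = b y`
      have e1 : y' = b * y := by
        have e2 : y = b * y' := by rw [← e, inv_mul_cancel_right]
        rw [e2, ← mul_assoc, hbb, one_mul]
      obtain ⟨g, h1, h2, h3, h4⟩ := id hy
      obtain ⟨m, hm, -, hmm⟩ := h.fr.mover_cj h1 h3
      have hmy : m * y * m⁻¹ = y' := by rw [e1]; exact hmm y h2 h4 hyb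
      have h5 : uu V y' ≤ uu V y ⊔ kq V b := by
        rw [← hmy, ← cj_uu]
        rw [cj_le_iff]
        intro u hu
        rw [mem_cj]
        have e3 : m⁻¹⁻¹ * u * m⁻¹ = u * (u⁻¹ * m * u) * m⁻¹ := by group
        rw [e3]
        refine mul_mem (mul_mem (mem_sup_left hu) (mem_sup_right ?_)) (mem_sup_right (inv_mem hm))
        exact conj_mem_of_normalizer' (centralizer_le_normalizer_kq V b) (hUC y hy hu) hm
      intro u hu
      exact (sup_le h5 le_sup_right) hu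
  have hQ : ∀ y (hy : Col V b y), y ≠ b → Q (mk ⟨y, h.fr.mem_ws_of_col hy⟩) = X y := by
    intro y hy hyb
    refine le_antisymm (iSup_le ?_) ?_
    · rintro ⟨y', hy', hyb', e⟩
      exact hX y hy hyb y' hy' hyb' ((hone _ _).mp e)
    · exact le_iSup (fun y : {y' : G // ∃ hy' : Col V b y', y' ≠ b ∧ mk ⟨y, h.fr.mem_ws_of_col hy⟩ =
        mk ⟨y', h.fr.mem_ws_of_col hy'⟩} => X y) ⟨y, hy, hyb, rfl⟩
  have hOm : ∀ y (hy : Col V b y), y ≠ b → mk ⟨y, h.fr.mem_ws_of_col hy⟩ ∈ Om := fun y hy hyb => ⟨y, hy, hyb, rfl⟩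
  -- conjugates of points
  have hcol : ∀ (g : C) (y : G), Col V b y → Col V b ((g : G) * y * (g : G)⁻¹) := by
    intro g y hy
    have h1 := hy.conj (g : G)
    have h2 : (g : G) * b * (g : G)⁻¹ = b := by
      rw [mem_centralizer_singleton_iff.mp g.2, mul_inv_cancel_right]
    rwa [h2] at h1
  have hneb : ∀ (g : C) (y : G), y ≠ b → (g : G) * y * (g : G)⁻¹ ≠ b := by
    intro g y hy e
    apply hy
    calc y = (g : G)⁻¹ * ((g : G) * y * (g : G)⁻¹) * g := by group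
      _ = (g : G)⁻¹ * (b * g) := by rw [e]; group
      _ = b := by rw [← mem_centralizer_singleton_iff.mp g.2, inv_mul_cancel_left]
  -- elements of `K_b` act trivially
  have hkact : ∀ g : C, (g : G) ∈ kq V b → ∀ m : W ⧸ Y.subgroupOf W, g • m = m := by
    intro g hg m
    obtain ⟨x, rfl⟩ := hmk m
    exact (hfix g x).mpr (kq_comm hg x.2)
  have hkact' : ∀ g : C, (∀ m : W ⧸ Y.subgroupOf W, g • m = m) → (g : G) ∈ kq V b := by
    intro g hg
    refine ⟨g.2, fun w hw => (hfix g ⟨w, hw⟩).mp (hg _), fun w hw => ?_⟩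
    have h1 : g⁻¹ • mk ⟨w, hw⟩ = mk ⟨w, hw⟩ := by rw [inv_smul_eq_iff, hg]
    have h2 := (hfix g⁻¹ ⟨w, hw⟩).mp h1
    have e : ((g⁻¹ : C) : G) * w * ((g⁻¹ : C) : G)⁻¹ * w⁻¹ = (g : G)⁻¹ * w * g * w⁻¹ := by
      rw [InvMemClass.coe_inv, inv_inv]
    rw [← e]
    exact h2
  -- `C / K_b`
  have hKn : ((kq V b).subgroupOf C).Normal :=
    normal_subgroupOf_of_le_normalizer (centralizer_le_normalizer_kq V b)
  let π : C →* C ⧸ (kq V b).subgroupOf C := QuotientGroup.mk' ((kq V b).subgroupOf C)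
  have hπ : ∀ y, Col V b y → ∀ g ∈ X y, ∃ v : C, (v : G) ∈ uu V y ∧ π v = π g := by
    intro y hy g hg
    have h1 : (uu V y ⊔ kq V b) ≤ ((((uu V y).subgroupOf C).map π).comap π).map C.subtype := by
      refine sup_le (fun v hv => ⟨⟨v, hUC y hy hv⟩, mem_comap.mpr ⟨_, hv, rfl⟩, rfl⟩) fun k hk => ?_
      refine ⟨⟨k, hkC hk⟩, mem_comap.mpr ⟨1, one_mem _, ?_⟩, rfl⟩
      rw [map_one]
      exact ((QuotientGroup.eq_one_iff (N := (kq V b).subgroupOf C) (⟨k, hkC hk⟩ : C)).mpr hk).symm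
    obtain ⟨u', hu', e⟩ := h1 (show (g : G) ∈ uu V y ⊔ kq V b from hg)
    have e' : u' = g := Subtype.ext e
    subst e'
    obtain ⟨v, hv, hve⟩ := mem_comap.mp hu'
    exact ⟨v, hv, hve⟩
  have hπact : ∀ g g' : C, π g = π g' → ∀ m : W ⧸ Y.subgroupOf W, g • m = g' • m := by
    intro g g' e m
    have h1 : π (g'⁻¹ * g) = 1 := by rw [map_mul, map_inv, e, inv_mul_cancel]
    have h2 := hkact _ ((QuotientGroup.eq_one_iff (N := (kq V b).subgroupOf C) _).mp h1) m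
    rw [mul_smul, inv_smul_eq_iff] at h2
    exact h2
  have htvM : ∀ t (ht : t ∈ uu V y₀), (∀ w ∈ ws V b, Md b y₀ t w) →
      TQ.Tv (mk ⟨y₀, h.fr.mem_ws_of_col hy₀⟩) (⟨t, hUC y₀ hy₀ ht⟩ : C) := by
    intro t ht hmd m
    obtain ⟨x, rfl⟩ := hmk m
    rcases hmd x x.2 with e | e
    · exact Or.inl ((hfix ⟨t, hUC y₀ hy₀ ht⟩ x).mpr e)
    · right
      rw [hsm, ← map_mul, hone]
      change t * x * t⁻¹ * (y₀ * (x : G))⁻¹ ∈ Y
      have e2 : t * x * t⁻¹ * (x : G)⁻¹ * y₀⁻¹ = t * x * t⁻¹ * (y₀ * (x : G))⁻¹ := by group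
      rw [← e2]
      exact e
  have D : TQ.Dat Om Q :=
    { comm := by
        intro m m'
        obtain ⟨x, rfl⟩ := hmk m
        obtain ⟨x', rfl⟩ := hmk m'
        rw [← map_mul, ← map_mul]
        congr 1
        exact Subtype.ext (hcommW x x.2 x' x'.2)
      sq := by
        intro m
        obtain ⟨x, rfl⟩ := hmk m
        rw [← map_mul, hone']
        change (x : G) * x ∈ Y
        rw [hsqW x x.2]
        exact one_mem _
      ne := by
        rintro w ⟨y, hy, hyb, rfl⟩ e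
        rw [hone'] at e
        rcases (mem_zpowers_iff_of_mul_self hbb).mp e with e1 | e1
        · exact hy.right.ne_one e1
        · exact hyb e1
      smul := by
        rintro g w ⟨y, hy, hyb, rfl⟩
        exact ⟨(g : G) * y * (g : G)⁻¹, hcol g y hy, hneb g y hyb, rfl⟩
      trans := by
        rintro w ⟨y, hy, hyb, rfl⟩ w' ⟨y', hy', hyb', rfl⟩
        obtain ⟨g, h1, h2⟩ := exists_conj_flag h.fr hy hyb hy' hyb'
        have hg : g ∈ C := by
          rw [hC, mem_centralizer_singleton_iff]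
          calc g * b = (g * b * g⁻¹) * g := by group
            _ = b * g := by rw [h1]
        refine ⟨⟨g, hg⟩, ?_⟩
        rw [hsm]
        congr 1
        exact Subtype.ext h2
      span := by
        rw [eq_top_iff]
        intro m _
        have key : W ≤ ((closure Om).comap mk).map W.subtype := by
          refine ws_le fun L hL v hv => ?_
          have hvW : v ∈ W := le_ws hL hv
          refine ⟨⟨v, hvW⟩, ?_, rfl⟩
          rw [SetLike.mem_coe, mem_comap]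
          by_cases hv1 : v = 1
          · have : mk ⟨v, hvW⟩ = 1 := by
              rw [hone']
              change v ∈ Y
              rw [hv1]; exact one_mem _
            rw [this]; exact one_mem _
          by_cases hvb : v = b
          · have : mk ⟨v, hvW⟩ = 1 := by
              rw [hone']
              change v ∈ Y
              rw [hvb]; exact mem_zpowers b
            rw [this]; exact one_mem _
          · obtain ⟨⟨g, rfl⟩, hbL⟩ := hL
            exact subset_closure ⟨v, ⟨g, hbL, hv, hb.ne_one, hv1⟩, hvb, rfl⟩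
        obtain ⟨x, rfl⟩ := hmk m
        obtain ⟨x', hx', e⟩ := key x.2
        have : x' = x := Subtype.ext e
        rw [← this]
        exact hx'
      conj := by
        rintro g w ⟨y, hy, hyb, rfl⟩ u hu
        rw [hQ y hy hyb] at hu
        have e : g • mk ⟨y, h.fr.mem_ws_of_col hy⟩ =
          mk ⟨(g : G) * y * (g : G)⁻¹, h.fr.mem_ws_of_col (hcol g y hy)⟩ := rfl
        rw [e, hQ _ (hcol g y hy) (hneb g y hyb)]
        have h1 := conj_mem_cj (g := (g : G)) (show (u : G) ∈ uu V y ⊔ kq V b from hu)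
        have h2 : cj (g : G) (uu V y ⊔ kq V b) = uu V ((g : G) * y * (g : G)⁻¹) ⊔ kq V b := by
          rw [show cj (g : G) (uu V y ⊔ kq V b) = cj (g : G) (uu V y) ⊔ cj (g : G) (kq V b) from
            Subgroup.map_sup _ _ _, cj_uu, cj_kq, mem_centralizer_singleton_iff.mp g.2, mul_inv_cancel_right]
        rw [h2] at h1
        exact h1
      fix := by
        rintro w ⟨y, hy, hyb, rfl⟩ u hu
        rw [hQ y hy hyb] at hu
        have h1 : uu V y ⊔ kq V b ≤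
            (MulAction.stabilizer C (mk ⟨y, h.fr.mem_ws_of_col hy⟩)).map C.subtype := by
          refine sup_le (fun u hu => ⟨⟨u, hUC y hy hu⟩, ?_, rfl⟩) fun k hk => ⟨⟨k, hkC hk⟩, hkact _ hk _, rfl⟩
          refine (hfix ⟨u, hUC y hy hu⟩ ⟨y, h.fr.mem_ws_of_col hy⟩).mpr ?_
          change u * y * u⁻¹ * y⁻¹ ∈ Y
          have h2 := mem_centralizer_iff.mp (h.uu_le_cent y hu) y (h.fr.mem_ws_self hy.right)
          rw [← h2, mul_inv_cancel_right, mul_inv_cancel]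
          exact one_mem _
        obtain ⟨u', hu', e⟩ := h1 (show (u : G) ∈ uu V y ⊔ kq V b from hu)
        have : u' = u := Subtype.ext e
        rw [← this]
        exact hu'
      two := by
        rintro w ⟨y, hy, hyb, rfl⟩ u hu
        rw [hQ y hy hyb] at hu
        obtain ⟨v, hv, hve⟩ := hπ y hy u hu
        obtain ⟨k, hk⟩ := h.isPGroup_uu y ⟨(v : G), hv⟩
        refine ⟨k, hkact _ ?_⟩
        have h2 : v ^ 2 ^ k = 1 := by
          have := congrArg Subtype.val hk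
          rw [SubmonoidClass.coe_pow, OneMemClass.coe_one] at this
          apply Subtype.ext
          rw [SubmonoidClass.coe_pow]
          exact this
        have h3 : π (u ^ 2 ^ k) = 1 := by rw [map_pow, ← hve, ← map_pow, h2, map_one]
        exact (QuotientGroup.eq_one_iff (N := (kq V b).subgroupOf C) _).mp h3
      o2 := by
        intro N hN hN2 n hn m
        refine hkact n ?_ m
        have h1 : N.map C.subtype ≤ kq V b := by
          refine le_kq_pt h.fr hb ?_ ?_ ?_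
          · rintro _ ⟨n, -, rfl⟩
            exact n.2
          · refine le_normalizer_of_forall ?_
            rintro g hg _ ⟨n, hn, rfl⟩
            exact ⟨⟨g, hg⟩ * n * ⟨g, hg⟩⁻¹, hN _ n hn, rfl⟩
          · rintro _ ⟨n, hn, rfl⟩
            refine ⟨1, ?_⟩
            have h2 := hkact' (n * n) fun m => by rw [mul_smul]; exact hN2 n hn m
            rw [pow_one, pow_two]
            exact h2
        exact h1 ⟨n, hn, rfl⟩
      tv := by
        refine ⟨_, hOm y₀ hy₀ hne₀, ⟨t, hUC y₀ hy₀ ht⟩, ?_, htvM t ht htv.md, ?_⟩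
        · rw [hQ y₀ hy₀ hne₀]
          exact mem_sup_left (T := kq V b) ht
        · obtain ⟨w, hw, hn⟩ := htv.ne
          exact ⟨mk ⟨w, hw⟩, fun e => hn ((hfix ⟨t, hUC y₀ hy₀ ht⟩ ⟨w, hw⟩).mp e)⟩ }
  have hfin : ∀ y (hy : Col V b y), y ≠ b → (∀ g ∈ Q (mk ⟨y, h.fr.mem_ws_of_col hy⟩),
      TQ.Tv (mk ⟨y, h.fr.mem_ws_of_col hy⟩) g) → ∀ u ∈ uu V y, ∀ w ∈ ws V b, Md b y u w := by
    intro y hy hyb hT u hu w hw
    have h1 := hT ⟨u, hUC y hy hu⟩ (by rw [hQ y hy hyb]; exact mem_sup_left (T := kq V b) hu) (mk ⟨w, hw⟩)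
    rcases h1 with e | e
    · exact Or.inl ((hfix ⟨u, hUC y hy hu⟩ ⟨w, hw⟩).mp e)
    · right
      rw [hsm, ← map_mul, hone] at e
      have e2 : u * w * u⁻¹ * w⁻¹ * y⁻¹ = u * w * u⁻¹ * (y * w)⁻¹ := by group
      rw [e2]
      exact e
  intro y hy hyb
  refine hfin y hy hyb fun g hg => ?_
  rcases hcase with hquad | ⟨t', ht', htv', hne'⟩
  · refine D.tq ?_ (hOm y hy hyb) hg
    rintro w ⟨y', hy', hyb', rfl⟩ g hg g' hg' m
    rw [hQ y' hy' hyb'] at hg hg'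
    obtain ⟨v, hv, hve⟩ := hπ y' hy' g hg
    obtain ⟨v', hv', hve'⟩ := hπ y' hy' g' hg'
    rw [← hπact v g hve m, ← hπact v' g' hve']
    obtain ⟨x, rfl⟩ := hmk m
    rw [hsm, ← map_inv, ← map_mul, hfix]
    exact hquad y' hy' hyb' v hv v' hv' x x.2
  · refine D.tqBig (hOm y₀ hy₀ hne₀) (t := ⟨t, hUC y₀ hy₀ ht⟩) (t' := ⟨t', hUC y₀ hy₀ ht'⟩) ?_ ?_
      (htvM t ht htv.md) (htvM t' ht' htv'.md) ?_ ?_ ?_ (hOm y hy hyb) hg
    · rw [hQ y₀ hy₀ hne₀]
      exact mem_sup_left (T := kq V b) ht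
    · rw [hQ y₀ hy₀ hne₀]
      exact mem_sup_left (T := kq V b) ht'
    · obtain ⟨w, hw, hn⟩ := htv.ne
      exact ⟨mk ⟨w, hw⟩, fun e => hn ((hfix ⟨t, hUC y₀ hy₀ ht⟩ ⟨w, hw⟩).mp e)⟩
    · obtain ⟨w, hw, hn⟩ := htv'.ne
      exact ⟨mk ⟨w, hw⟩, fun e => hn ((hfix ⟨t', hUC y₀ hy₀ ht'⟩ ⟨w, hw⟩).mp e)⟩
    · obtain ⟨w, hw, hn⟩ := hne'
      refine ⟨mk ⟨w, hw⟩, fun e => hn ?_⟩
      rw [hsm, hsm, hone] at e
      exact e

/-- `[W_b, U_y] ≤ ⟨b, y⟩` for one point `b` and all `y ~ b` : TYPE N -/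
theorem tyN_of_md (h : Two T V z) (hb : Col V b b)
    (hmd : ∀ y, Col V b y → y ≠ b → ∀ u ∈ uu V y, ∀ w ∈ ws V b, Md b y u w) : TyN T V z := by
  refine { h with n := ?_ }
  intro a r b' har hrb x hx y hy
  by_cases hcom : Com V a b'
  · rw [hcom x hx y hy, mul_inv_cancel_right, mul_inv_cancel]
    exact one_mem _
  have hm : Mid T V z a r b' := { h with pr := har, rq := hrb, ne := hcom }
  -- conjugate `b'` to `b`
  obtain ⟨g, hg⟩ := h.fr.exists_conj hrb.right hb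
  have hm' := hm.conj g
  rw [hg] at hm'
  have h1 := hmd _ hm'.rq.symm hm'.ne_rq _ (ws_le_uu hm'.pr.symm (conj_mem_ws g hx)) (g * y * g⁻¹) (by
    have := conj_mem_ws g hy
    rwa [hg] at this)
  set x' := g * x * g⁻¹
  set y' := g * y * g⁻¹
  set r' := g * r * g⁻¹
  have hc : x' * y' * x'⁻¹ * y'⁻¹ ∈ ws V (g * a * g⁻¹) ⊓ ws V b := by
    refine hm'.comm_mem (conj_mem_ws g hx) ?_
    have := conj_mem_ws g hy
    rwa [hg] at this
  have hbb := h.fr.pt_sq hb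
  have h2 : x' * y' * x'⁻¹ * y'⁻¹ ∈ zpowers r' := by
    refine hm'.mem_zpowers_of (mem_inf.mp hc).1 ?_
    rcases h1 with e | e
    · rcases (mem_zpowers_iff_of_mul_self hbb).mp e with e | e
      · exact Or.inl e
      · exact Or.inr (Or.inr (Or.inl e))
    · have hcomm : b * r' = r' * b := (h.fr.col_comm hm'.rq).symm
      rcases (mem_zpowers_iff_of_mul_self hbb).mp e with e | e
      · exact Or.inr (Or.inl (mul_inv_eq_one.mp e))
      · right; right; right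
        rw [← hcomm, ← e, inv_mul_cancel_right]
  have h3 := conj_mem_cj (g := g⁻¹) h2
  have e1 : cj g⁻¹ (zpowers r') = zpowers r := by
    have : cj g⁻¹ (zpowers r') = zpowers (g⁻¹ * r' * g⁻¹⁻¹) := MonoidHom.map_zpowers _ _
    rw [this]
    congr 1
    change g⁻¹ * (g * r * g⁻¹) * g⁻¹⁻¹ = r
    group
  rw [e1] at h3
  have e2 : g⁻¹ * (x' * y' * x'⁻¹ * y'⁻¹) * g⁻¹⁻¹ = x * y * x⁻¹ * y⁻¹ := by
    change g⁻¹ * (g * x * g⁻¹ * (g * y * g⁻¹) * (g * x * g⁻¹)⁻¹ * (g * y * g⁻¹)⁻¹) * g⁻¹⁻¹ = _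
    group
  rwa [e2] at h3

/-- **THEOREM TQ** : one transvection, quadratic -/
theorem tyN_of_tv (h : Two T V z) (hq : QuadB V b) (hy : Col V b y) (hne : y ≠ b) {t : G} (ht : t ∈ uu V y)
    (htv : Tvg V b y t) : TyN T V z :=
  tyN_of_md h hy.left (md_of h hy hne ht htv (Or.inl hq))

/-- **THEOREM TQ'** : two transvections -/
theorem tyN_of_two (h : Two T V z) (hy : Col V b y) (hne : y ≠ b) {t t' : G} (ht : t ∈ uu V y) (ht' : t' ∈ uu V y)
    (htv : Tvg V b y t) (htv' : Tvg V b y t') (hw : ∃ w ∈ ws V b, (t * w * t⁻¹) * (t' * w * t'⁻¹)⁻¹ ∉ zpowers b) :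
    TyN T V z :=
  tyN_of_md h hy.left (md_of h hy hne ht htv (Or.inr ⟨t', ht', htv', hw⟩))

/-- TYPE N, or `U_r` contains no transvection of `M_b` with centre `r` (this is `Tq V` of `Opp.lean`) -/
theorem tyN_or_tq (h : Two T V z) (hq : ∀ b, Col V b b → QuadB V b) :
    TyN T V z ∨ ∀ b r, Col V b r → b ≠ r → ∀ u ∈ uu V r,
      (∀ w ∈ ws V b, u * w * u⁻¹ * w⁻¹ ∈ closure {b, r}) → ∀ w ∈ ws V b, u * w * u⁻¹ * w⁻¹ ∈ zpowers b := by
  by_cases hN : TyN T V z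
  · exact Or.inl hN
  right
  intro b r hbr hne u hu hcl
  by_contra hcon
  push Not at hcon
  refine hN (tyN_of_tv h (hq b hbr.left) hbr (Ne.symm hne) hu ⟨fun w hw => ?_, hcon⟩)
  have hbb := h.fr.pt_sq hbr.left
  have hrr := h.fr.pt_sq hbr.right
  have hcomm := h.fr.ws_comm hbr.left
  have hbW := h.fr.mem_ws_self hbr.left
  have hrW := h.fr.mem_ws_of_col hbr
  have hle : closure {b, r} ≤ zpowers b ⊔ zpowers r := by
    rw [closure_le]
    rintro y (rfl | rfl)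
    · exact mem_sup_left (mem_zpowers _)
    · exact mem_sup_right (mem_zpowers _)
  obtain ⟨i, hi, j, hj, e⟩ := mem_sup_of_comm hcomm (zpowers_le.mpr hbW) (zpowers_le.mpr hrW) (hle (hcl w hw))
  rcases (mem_zpowers_iff_of_mul_self hrr).mp hj with e' | e'
  · left
    rw [e, e', mul_one]
    exact hi
  · right
    rw [e, e', mul_inv_cancel_right]
    exact hi

end

end Cfsg.Agent.Omega.NO3S.TwoMid

end

section


/-!
# NO-3S, `|V| = 4`, critical distance 2 (TwoMid): THEOREM 2 of helper502 (#17909)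

`Sit T V z a r b f h`, `x = h r h⁻¹`: if `[W_x, W_r] = ⟨b⟩`, then TYPE N (`Sit.tyN`), and `[W_x, W_r] ≠ 1`, not TYPE N imply
`[W_x, W_r] ≰ ⟨b⟩` (`Sit.not_le`).  No (NO), no `N_b = ⟨b⟩`.

* `Sit.exists_sqrt` : `k² = h`; `h f = k f k⁻¹` interchanges `r` and `x`;
* `Sit.form_symm`, `Sit.form_self` : `(w, w') ↦ [w, h w' h⁻¹]` is symmetric and alternating on `W_r`.
-/

set_option autoImplicit false
set_option linter.unusedSectionVars false

namespace Cfsg.Agent.Omega.NO3S.TwoMid.Alpha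

open Subgroup Cfsg Cfsg.Agent.ZN Cfsg.Agent.MinSimple.Geo Cfsg.Agent.Omega.CaseL Cfsg.Agent.Omega.NO3S.TwoOne
  Cfsg.Agent.Omega.NO3S.Pt Cfsg.Agent.Omega.NO3S.TwoMid
open Cfsg.Agent.ZN.Block (conj_mem_of_normalizer conj_mem_of_normalizer' le_normalizer_of_forall
  mem_normalizer_of)

universe u

variable {G : Type u} [Group G] {T V : Subgroup G} {z : G} {a b r f h : G}

namespace Sit

variable [Finite G] (s : Sit T V z a r b f h)
include s

/-- a square root of `h` in `⟨h⟩` -/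
theorem exists_sqrt : ∃ k : G, k * k = h ∧ Iv b f k := by
  obtain ⟨k, hk⟩ := s.iv.odd
  refine ⟨h ^ (k + 1), ?_, s.iv.pow _⟩
  rw [← pow_add, show k + 1 + (k + 1) = orderOf h + 1 by omega, pow_succ, pow_orderOf_eq_one, one_mul]

theorem hf_sq : (h * f) * (h * f) = 1 := by
  have hi := s.iv.inv
  calc (h * f) * (h * f) = h * (f * h * f⁻¹) * (f * f) := by group
    _ = 1 := by rw [hi, mul_inv_cancel, s.ff, one_mul]

theorem hf_inv : (h * f)⁻¹ = h * f := inv_eq_of_mul_eq_one_left s.hf_sq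

/-- `h f` acts on `W_r` as `h` -/
theorem hf_conj {w : G} (hw : w ∈ ws V r) : (h * f) * w * (h * f)⁻¹ = h * w * h⁻¹ := by
  have h1 : f * w = w * f := (mem_centralizer_iff.mp (s.mid.toTwo.ws_le_cent s.mid.pr s.f_mem) w hw).symm
  calc (h * f) * w * (h * f)⁻¹ = h * (f * w) * f⁻¹ * h⁻¹ := by group
    _ = h * w * h⁻¹ := by rw [h1]; group

theorem hf_conj' {w : G} (hw : w ∈ ws V r) : (h * f) * (h * w * h⁻¹) * (h * f)⁻¹ = w := by
  rw [← s.hf_conj hw]
  calc (h * f) * ((h * f) * w * (h * f)⁻¹) * (h * f)⁻¹ = ((h * f) * (h * f)) * w * ((h * f) * (h * f))⁻¹ := by group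
    _ = w := by rw [s.hf_sq]; group

theorem hf_b : (h * f) * b = b * (h * f) := mul_comm_of s.iv.cb s.fb

variable (hR : rr V (h * r * h⁻¹) r ≤ zpowers b)
include hR

/-- the values of the form -/
theorem form_mem {w w' : G} (hw : w ∈ ws V r) (hw' : w' ∈ ws V r) :
    w * (h * w' * h⁻¹) * w⁻¹ * (h * w' * h⁻¹)⁻¹ ∈ zpowers b := by
  apply hR
  rw [rr_comm]
  exact comm_mem_rr hw (conj_mem_ws h hw')

theorem form_symm {w w' : G} (hw : w ∈ ws V r) (hw' : w' ∈ ws V r) :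
    w * (h * w' * h⁻¹) * w⁻¹ * (h * w' * h⁻¹)⁻¹ = w' * (h * w * h⁻¹) * w'⁻¹ * (h * w * h⁻¹)⁻¹ := by
  have h1 := s.form_mem hR hw hw'
  have h2 := s.form_mem hR hw' hw
  -- conjugation by `h f`
  have h3 : (h * f) * (w * (h * w' * h⁻¹) * w⁻¹ * (h * w' * h⁻¹)⁻¹) * (h * f)⁻¹ =
      (w' * (h * w * h⁻¹) * w'⁻¹ * (h * w * h⁻¹)⁻¹)⁻¹ := by
    calc (h * f) * (w * (h * w' * h⁻¹) * w⁻¹ * (h * w' * h⁻¹)⁻¹) * (h * f)⁻¹
        = ((h * f) * w * (h * f)⁻¹) * ((h * f) * (h * w' * h⁻¹) * (h * f)⁻¹) * ((h * f) * w * (h * f)⁻¹)⁻¹ *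
          ((h * f) * (h * w' * h⁻¹) * (h * f)⁻¹)⁻¹ := by group
      _ = (h * w * h⁻¹) * w' * (h * w * h⁻¹)⁻¹ * w'⁻¹ := by rw [s.hf_conj hw, s.hf_conj' hw']
      _ = _ := by group
  have h4 : (h * f) * (w * (h * w' * h⁻¹) * w⁻¹ * (h * w' * h⁻¹)⁻¹) * (h * f)⁻¹ =
      w * (h * w' * h⁻¹) * w⁻¹ * (h * w' * h⁻¹)⁻¹ := conj_zpowers_of_comm s.hf_b h1
  rw [← h4, h3]
  rcases (mem_zpowers_iff_of_mul_self s.bb).mp h2 with e | e
  · rw [e, inv_one]
  · rw [e, inv_eq_of_mul_eq_one_left s.bb]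

theorem form_self {w : G} (hw : w ∈ ws V r) : w * (h * w * h⁻¹) * w⁻¹ * (h * w * h⁻¹)⁻¹ = 1 := by
  obtain ⟨k, hkk, ik⟩ := s.exists_sqrt
  have hT := s.mid.toTwo
  have hfk : k * f * k⁻¹ = h * f := by
    have := ik.symm.inv
    rw [inv_inv] at this
    calc k * f * k⁻¹ = k * (f * k⁻¹ * f⁻¹) * f := by group
      _ = h * f := by rw [this, hkk]
  -- `a' ~ r' ~ b`
  have hkb : k * b * k⁻¹ = b := by rw [ik.cb, mul_inv_cancel_right]
  have hm := s.mid.conj k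
  rw [hkb] at hm
  have hf' : h * f ∈ ws V (k * a * k⁻¹) := by rw [← hfk]; exact conj_mem_ws k s.f_mem
  -- `w` fixes `r'`
  have hwr : w * (k * r * k⁻¹) * w⁻¹ = k * r * k⁻¹ := by
    have h1 := hT.com s.mid.rq w hw (k * r * k⁻¹) (s.mid.fr.mem_ws_of_col hm.rq.symm)
    rw [h1, mul_inv_cancel_right]
  have hcol : Col V (k * r * k⁻¹) (w * (k * a * k⁻¹) * w⁻¹) := by
    have := hm.pr.symm.conj w
    rwa [hwr] at this
  have hc := hT.comm_mem hm.pr hcol hf' (conj_mem_ws w hf')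
  have hww : w * w = 1 := s.mid.fr.ws_sq s.mid.rq.left w hw
  have hwi : w⁻¹ = w := inv_eq_of_mul_eq_one_left hww
  have hv : h * w * h⁻¹ = (h * f) * w * (h * f) := by
    rw [← s.hf_conj hw, s.hf_inv]
  have hmem := s.form_mem hR hw hw
  -- the commutator
  have e1 : h * f * (w * (h * f) * w⁻¹) * (h * f)⁻¹ * (w * (h * f) * w⁻¹)⁻¹ =
      w⁻¹ * (w * (h * w * h⁻¹) * w⁻¹ * (h * w * h⁻¹)⁻¹) * w := by
    rw [hv]
    generalize hg : h * f = g
    have hgi : g⁻¹ = g := by rw [← hg]; exact s.hf_inv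
    simp only [mul_inv_rev, hgi, hwi]
    calc g * (w * g * w) * g * (w * (g * w)) = g * w * g * w * g * w * g * w := by simp only [mul_assoc]
      _ = (w * w) * (g * w * g * w * g * w * g * w) := by rw [hww, one_mul]
      _ = _ := by simp only [mul_assoc]
  have hwb : w * b = b * w := (hT.com s.mid.rq w hw b s.b_b)
  rw [e1] at hc
  have e2 : w⁻¹ * (w * (h * w * h⁻¹) * w⁻¹ * (h * w * h⁻¹)⁻¹) * w =
      w * (h * w * h⁻¹) * w⁻¹ * (h * w * h⁻¹)⁻¹ := by
    have := conj_zpowers_of_comm (g := w⁻¹) (inv_comm_of hwb) hmem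
    rwa [inv_inv] at this
  rw [e2] at hc
  rcases (mem_zpowers_iff_of_mul_self s.bb).mp hmem with e | e
  · exact e
  · rw [e] at hc
    exact absurd (mem_inf.mp hc).1 hm.not_mem'

/-- **THEOREM 2** (helper502) -/
theorem tyN (hne : ¬ Com V (h * r * h⁻¹) r) : TyN T V z := by
  have hT := s.mid.toTwo
  obtain ⟨u, hu, w₁, hw₁, hcom⟩ : ∃ u ∈ ws V (h * r * h⁻¹), ∃ w ∈ ws V r, u * w ≠ w * u := by
    by_contra hcon
    push Not at hcon
    exact hne fun u hu w hw => hcon u hu w hw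
  set w₂ := h⁻¹ * u * h with hw₂d
  have hw₂ : w₂ ∈ ws V r := by
    rw [← cj_ws] at hu
    exact mem_cj.mp hu
  have hu2 : h * w₂ * h⁻¹ = u := by rw [hw₂d]; group
  set F : G → G → G := fun w w' => w * (h * w' * h⁻¹) * w⁻¹ * (h * w' * h⁻¹)⁻¹ with hF
  have hF12 : F w₁ w₂ = b := by
    rcases (mem_zpowers_iff_of_mul_self s.bb).mp (s.form_mem hR hw₁ hw₂) with e | e
    · exfalso
      apply hcom
      have e' : w₁ * u * w₁⁻¹ * u⁻¹ = 1 := by rw [← hu2]; exact e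
      calc u * w₁ = (w₁ * u * w₁⁻¹ * u⁻¹)⁻¹ * (w₁ * u) := by group
        _ = w₁ * u := by rw [e', inv_one, one_mul]
    · exact e
  have hF21 : F w₂ w₁ = b := by
    rw [← hF12]
    exact (s.form_symm hR hw₁ hw₂).symm
  have hF11 : F w₁ w₁ = 1 := s.form_self hR hw₁
  have hF22 : F w₂ w₂ = 1 := s.form_self hR hw₂
  have hxb : Col V b (h * r * h⁻¹) := s.bx
  have hbr : b ≠ r := s.mid.ne_rq.symm
  have hcv : ∀ w w', (h * w' * h⁻¹) * w * (h * w' * h⁻¹)⁻¹ * w⁻¹ = (F w w')⁻¹ := by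
    intro w w'
    rw [hF]
    group
  have hbi : b⁻¹ = b := inv_eq_of_mul_eq_one_left s.bb
  have hb1 : b ≠ 1 := s.mid.rq.right.ne_one
  have hbz : b ∉ zpowers r := by
    intro e
    rcases (mem_zpowers_iff_of_mul_self s.rr1).mp e with e | e
    · exact hb1 e
    · exact hbr e
  have hmd : ∀ w' ∈ ws V r, ∀ w ∈ ws V r, Md r b (h * w' * h⁻¹) w := by
    intro w' hw' w hw
    unfold Md
    rw [hcv]
    rcases (mem_zpowers_iff_of_mul_self s.bb).mp (s.form_mem hR hw hw') with e | e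
    · left
      change (w * (h * w' * h⁻¹) * w⁻¹ * (h * w' * h⁻¹)⁻¹)⁻¹ ∈ _
      rw [e, inv_one]
      exact one_mem _
    · right
      change (w * (h * w' * h⁻¹) * w⁻¹ * (h * w' * h⁻¹)⁻¹)⁻¹ * b⁻¹ ∈ _
      rw [e, hbi, s.bb]
      exact one_mem _
  refine tyN_of_two hT (b := r) (y := b) s.mid.rq hbr
    (ws_le_uu hxb (conj_mem_ws h hw₁)) (ws_le_uu hxb (conj_mem_ws h hw₂))
    ⟨hmd w₁ hw₁, w₂, hw₂, ?_⟩ ⟨hmd w₂ hw₂, w₁, hw₁, ?_⟩ ⟨w₁, hw₁, ?_⟩
  · rw [hcv, hF21, hbi]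
    exact hbz
  · rw [hcv, hF12, hbi]
    exact hbz
  · have e1 : (h * w₁ * h⁻¹) * w₁ * (h * w₁ * h⁻¹)⁻¹ = w₁ := by
      have := hcv w₁ w₁
      rw [hF11, inv_one] at this
      exact mul_inv_eq_one.mp this
    have e2 : (h * w₂ * h⁻¹) * w₁ * (h * w₂ * h⁻¹)⁻¹ = b * w₁ := by
      have := hcv w₁ w₂
      rw [hF12, hbi] at this
      exact mul_inv_eq_iff_eq_mul.mp this
    rw [e1, e2]
    have e3 : w₁ * (b * w₁)⁻¹ = b := by rw [mul_inv_rev, mul_inv_cancel_left, hbi]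
    rw [e3]
    exact hbz

end Sit

/-- not TYPE N, `(x, r)` critical: `[W_x, W_r] ≰ ⟨b⟩` -/
theorem Sit.not_le [Finite G] (s : Sit T V z a r b f h) (hN : ¬ TyN T V z) (hne : ¬ Com V (h * r * h⁻¹) r) :
    ¬ rr V (h * r * h⁻¹) r ≤ zpowers b := fun hR => hN (s.tyN hR hne)

end Cfsg.Agent.Omega.NO3S.TwoMid.Alpha

end
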