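import Cfsg.Agent.Mrg.Omega.NO3S.TwoMid.Final
import Cfsg.Agent.Mrg.Omega.NO3S.ThmB.Main
import Cfsg.Agent.Mrg.Omega.Node.NO3SLevel


/-!
# NO-3S, `TwoMid` with `FullK` : the socket `TwoMidF` of `Node/NO3SLevel.lean`

* `nb_of_z` : `N_z = ⟨z⟩` implies `N_p = ⟨p⟩` for all points;
* `f1_of_z` : (F1) from `N_z = ⟨z⟩`;
* `twoMidF` : `TwoMidF K` from (ML).
-/

set_option autoImplicit false

namespace Cfsg.Agent.Omega.NO3S.TwoMid

open Subgroup Cfsg Cfsg.Agent.ZN Cfsg.Agent.MinSimple.Geo Cfsg.Agent.Omega.CaseL Cfsg.Agent.Omega.NO3S.TwoOne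
  Cfsg.Agent.Omega.NO3S.Pt Cfsg.Agent.Omega.Frame
open Cfsg.Agent.Omega.NO3S.Dual (nn mem_nn)
open Cfsg.Agent.Omega.ML.Final (MLK)

universe u

/-- `N_p = ⟨p⟩` for all points -/
theorem nb_of_z {G : Type u} [Group G] {T V : Subgroup G} {z : G} (h : Fr T V z)
    (hz : ∀ w ∈ ws V z, (∀ k ∈ kq V z, k * w = w * k) → w ∈ zpowers z) : NB V := by
  rintro b ⟨g, hb, -, hb1, -⟩ w hw
  obtain ⟨hw1, hw2⟩ := mem_nn.1 hw
  obtain ⟨k, -, hk, -⟩ := h.flag hb hb1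
  have e1 : b = k * z * k⁻¹ := hk.symm
  rw [e1, ← cj_ws, mem_cj] at hw1
  have h1 := hz _ hw1 fun c hc => by
    have h2 := hw2 (k * c * k⁻¹) (by rw [e1]; exact conj_mem_kq k hc)
    calc c * (k⁻¹ * w * k) = k⁻¹ * (k * c * k⁻¹ * w) * k := by group
      _ = k⁻¹ * (w * (k * c * k⁻¹)) * k := by rw [h2]
      _ = k⁻¹ * w * k * c := by group
  obtain ⟨n, hn⟩ := mem_zpowers_iff.1 h1
  rw [mem_zpowers_iff]
  refine ⟨n, ?_⟩
  rw [e1, conj_zpow, hn]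
  group

/-- `N_z = z` implies (F1) -/
theorem f1_of_z {G : Type u} [Group G] [Finite G] {T V : Subgroup G} {z : G} (h : Ln T V z)
    (hz : ∀ w ∈ ws V z, (∀ k ∈ kq V z, k * w = w * k) → w ∈ zpowers z) :
    ∃ k ∈ kq V z, k ∉ centralizer (V : Set G) := by
  by_contra hcon
  push Not at hcon
  have h1 : V ≤ zpowers z := fun v hv =>
    hz v (h.V_le_ws hv) fun k hk => (mem_centralizer_iff.1 (hcon k hk) v hv).symm
  have h2 := Subgroup.card_le_of_le h1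
  rw [h.card_V, Nat.card_zpowers, orderOf_eq_prime (p := 2) (by rw [pow_two]; exact h.sq z h.z_mem) h.z_ne] at h2
  omega

/-- **`TwoMidF`** : critical distance 2, `|V_P| = 4`, `N_z = z`; only (ML) is used -/
theorem twoMidF {K : Cls.{u}} (hML : MLK.{u, u}) : NO3S.TwoMidF K := by
  intro G _ _ hK S P h hc hfull y hy
  obtain ⟨z, hz1⟩ := Subgroup.ne_bot_iff_exists_ne_one.1
    (MinSimple.Basic.zc_ne_bot S.isPGroup' (h.ctx.sylow_ne_bot S))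
  have hz1' : (z : G) ≠ 1 := fun e => hz1 (Subtype.ext e)
  have hN := (FullTwo.fullK_iff h hc z.2 hz1').1 hfull
  have hfr := fr_four h hc z.2 hz1' (f1_of_z (ln_four h hc z.2 hz1') hN)
  obtain ⟨r, hm⟩ := Mid.of_cr hfr (cr_of_crit h hc z.2 hz1' hfr hy)
  exact (hm.false_nb hML (fun p hp => kgroup_cent h.ctx hp.ne_one) (nb_of_z hfr hN)).elim

end Cfsg.Agent.Omega.NO3S.TwoMid
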